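import Cfsg.Agent.H148.GG.One
import Cfsg.Agent.H92.GG.Anti

/-!
# The adjoint quotient of a group with root group datum (S4884, helper356)

`R : RGD cs h p T n X` on `G`, `D : Adj T X F` (coordinates of the simple root groups, `T → ∏ (F i)ˣ` surjective),
`π : G →* Y` surjective with kernel the elements of `T` with `a i t = 1` for all `i` (`Ker`).

* `quotR` : the root group datum of `Y`; `quotD` : its coordinates; `quot_rigid` : `a i t = 1` for all `i` implies `t = 1`;
* `quot_GG` : generation; `quot_comm`; `exists_anti` : the anti-automorphism.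
-/

set_option autoImplicit false
set_option linter.unusedSectionVars false

namespace Cfsg.Agent.H356.AQ

open CoxeterSystem Cfsg.Agent.ChevalleyStructure.CoxeterGeom Cfsg.Agent.Tits.Roots Cfsg.Agent.Tits.Core
  Cfsg.Agent.Nodes.Comb Cfsg.Agent.Nodes.Reps Cfsg.Agent.Nodes.BNOf Cfsg.Agent.Nodes.RGDLib
  Cfsg.Agent.Nodes.Bruhat Cfsg.Agent.H148.GG

variable {I W G Y : Type*} [Fintype I] [DecidableEq I] [Group W] [Group G] [Group Y] {M : CoxeterMatrix I}
  {cs : CoxeterSystem M W} {A : I → I → ℤ} {h : IsCartan M A} {p : ℕ} {T : Subgroup G} {n : I → G}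
  {X : (I → ℤ) → Subgroup G} {F : I → Type*} [∀ i, Field (F i)]

/-- the kernel of `π` is the centre, the elements of `T` with trivial coordinates -/
structure Ker (D : Adj T X F) (π : G →* Y) : Prop where
  surj : Function.Surjective π
  mem : ∀ z, π z = 1 → z ∈ T
  ctr : ∀ z, π z = 1 → ∀ g, z * g = g * z
  of : ∀ t : T, (∀ i, D.a i t = 1) → π t = 1

section

variable {D : Adj T X F} {π : G →* Y} (K : Ker D π)

include K

theorem Ker.le_center : π.ker ≤ Subgroup.center G := by
  intro z hz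
  rw [Subgroup.mem_center_iff]
  intro g
  exact (K.ctr z hz g).symm

theorem Ker.a_eq {t : T} (ht : π t = 1) (i : I) : D.a i t = 1 := by
  obtain ⟨v, hv⟩ := D.surjX i (Multiplicative.ofAdd (1 : F i))
  have h1 : (t : G) * v * (t : G)⁻¹ = v := by rw [K.ctr _ ht, mul_inv_cancel_right]
  have h2 := D.act i t v (by rw [h1]; exact v.2)
  have h3 : (⟨(t : G) * (v : G) * (t : G)⁻¹, by rw [h1]; exact v.2⟩ : ↥(X (sr i))) = v := Subtype.ext h1
  rw [h3, hv] at h2
  apply Units.ext
  have h4 : (1 : F i) = (D.a i t : F i) * 1 := h2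
  rw [Units.val_one, h4, mul_one]

/-- `π` is injective on the simple root groups -/
theorem Ker.inj [Finite G] (R : RGD cs h p T n X) {i : I} {x : G} (hx : x ∈ X (sr i)) (h1 : π x = 1) :
    x = 1 := by
  have hT := K.mem x h1
  obtain ⟨k, hk⟩ := (R.pgrp i) ⟨x, hx⟩
  have hk' : x ^ p ^ k = 1 := congrArg Subtype.val hk
  have h2 : orderOf x ∣ p ^ k := orderOf_dvd_of_pow_eq_one hk'
  have h3 : orderOf x ∣ Nat.card T := by
    have := orderOf_dvd_natCard (⟨x, hT⟩ : T)
    rwa [Subgroup.orderOf_mk] at this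
  have h4 : (Nat.card T).Coprime (p ^ k) := R.tcop.pow_right k
  have h5 : orderOf x ∣ 1 := by
    have := Nat.dvd_gcd h3 h2
    rwa [h4.gcd_eq_one] at this
  exact orderOf_eq_one_iff.1 (Nat.dvd_one.1 h5)

/-- **the root group datum of the quotient** -/
theorem quotR [Finite G] [Finite W] [Fact p.Prime] (R : RGD cs h p T n X) :
    RGD cs h p (T.map π) (fun i => π (n i)) (fun x => (X x).map π) := rgd_map_of_ker_le_center R π K.le_center

/-- the simple root groups of the quotient -/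
noncomputable def eX [Finite G] (R : RGD cs h p T n X) (i : I) : ↥(X (sr i)) ≃* ↥((X (sr i)).map π) :=
  MulEquiv.ofBijective (π.subgroupMap (X (sr i))) ⟨by
    rw [injective_iff_map_eq_one]
    intro x hx
    exact Subtype.ext (K.inj R x.2 (congrArg Subtype.val hx)), π.subgroupMap_surjective _⟩

theorem eX_apply [Finite G] (R : RGD cs h p T n X) (i : I) (x : ↥(X (sr i))) :
    ((eX K R i x : ↥((X (sr i)).map π)) : Y) = π x := rfl

theorem eX_symm [Finite G] (R : RGD cs h p T n X) (i : I) {x : G} (hx : x ∈ X (sr i))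
    (hx' : π x ∈ (X (sr i)).map π) : (eX K R i).symm ⟨π x, hx'⟩ = ⟨x, hx⟩ := by
  rw [MulEquiv.symm_apply_eq]
  exact Subtype.ext rfl

/-- the characters of the torus of the quotient -/
noncomputable def qa (i : I) : ↥(T.map π) →* (F i)ˣ :=
  (π.subgroupMap T).liftOfRightInverse (Function.surjInv (π.subgroupMap_surjective T))
    (Function.rightInverse_surjInv (π.subgroupMap_surjective T)) ⟨D.a i, fun t ht => by
      rw [MonoidHom.mem_ker] at ht ⊢
      exact K.a_eq (congrArg Subtype.val ht) i⟩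

theorem qa_apply (i : I) (t : T) (ht : π t ∈ T.map π) : qa K i ⟨π t, ht⟩ = D.a i t :=
  MonoidHom.liftOfRightInverse_comp_apply (π.subgroupMap T) _ (Function.rightInverse_surjInv (π.subgroupMap_surjective T)) _ t

/-- **the coordinates of the quotient** -/
noncomputable def quotD [Finite G] (R : RGD cs h p T n X) :
    Adj (T.map π) (fun x => (X x).map π) F where
  x i := (D.x i).comp (eX K R i).symm.toMonoidHom
  a i := qa K i
  surjX i := (D.surjX i).comp (eX K R i).symm.surjective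
  act i t u hu := by
    obtain ⟨_, s, hs, rfl⟩ := t
    obtain ⟨_, v, hv, rfl⟩ := u
    have hs' : s ∈ T := hs
    have hv' : v ∈ X (sr i) := hv
    have h1 : s * v * s⁻¹ ∈ X (sr i) := (mem_normalizer_iff_cj.2 (R.tor _ (isRoot_sr cs h i) s hs)
      |> Subgroup.mem_normalizer_iff.1) v |>.1 hv
    have h2 := D.act i ⟨s, hs'⟩ ⟨v, hv'⟩ h1
    have m1 : π s ∈ T.map π := Subgroup.mem_map_of_mem π hs'
    have m2 : π v ∈ (X (sr i)).map π := Subgroup.mem_map_of_mem π hv'
    have m3 : π (s * v * s⁻¹) ∈ (X (sr i)).map π := Subgroup.mem_map_of_mem π h1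
    have hu' : π s * π v * (π s)⁻¹ ∈ (X (sr i)).map π := hu
    have e1 : (⟨π s * π v * (π s)⁻¹, hu'⟩ : ↥((X (sr i)).map π)) = ⟨π (s * v * s⁻¹), m3⟩ :=
      Subtype.ext (by simp only [map_mul, map_inv])
    show Multiplicative.toAdd (D.x i ((eX K R i).symm ⟨π s * π v * (π s)⁻¹, hu'⟩)) =
      (qa K i ⟨π s, m1⟩ : F i) * Multiplicative.toAdd (D.x i ((eX K R i).symm ⟨π v, m2⟩))
    rw [e1, eX_symm K R i h1 m3, eX_symm K R i hv' m2]
    have e2 := qa_apply K i ⟨s, hs'⟩ m1
    exact (congrArg Multiplicative.toAdd (congrArg (D.x i) (Subtype.ext rfl))).trans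
      (h2.trans (by rw [← e2]))
  lin i ψ u hu := by
    obtain ⟨_, v, hv, rfl⟩ := u
    have hv' : v ∈ X (sr i) := hv
    have m2 : π v ∈ (X (sr i)).map π := Subgroup.mem_map_of_mem π hv'
    have h1 : D.x i ⟨v, hv'⟩ = 1 := by
      have h2 : D.x i ((eX K R i).symm ⟨π v, m2⟩) = 1 := hu
      rwa [eX_symm K R i hv' m2] at h2
    exact D.lin i (ψ.comp (eX K R i).toMonoidHom) ⟨v, hv'⟩ h1
  surjT c := by
    obtain ⟨t, ht⟩ := D.surjT c
    exact ⟨⟨π t, Subgroup.mem_map_of_mem π t.2⟩, fun i => (qa_apply K i t _).trans (ht i)⟩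
  ker i t ht u hu := by
    obtain ⟨_, s, hs, rfl⟩ := t
    obtain ⟨v, hv, rfl⟩ := hu
    have hs' : s ∈ T := hs
    have m1 : π s ∈ T.map π := Subgroup.mem_map_of_mem π hs'
    have ht' : qa K i ⟨π s, m1⟩ = 1 := ht
    have e2 := qa_apply K i ⟨s, hs'⟩ m1
    show π s * π v = π v * π s
    rw [← map_mul, ← map_mul]
    exact congrArg π (D.ker i ⟨s, hs'⟩ (e2.symm.trans ht') v hv)

theorem quotD_a [Finite G] (R : RGD cs h p T n X) (i : I) (t : T) (ht : π t ∈ T.map π) :
    (quotD K R).a i ⟨π t, ht⟩ = D.a i t := qa_apply K i t ht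

/-- **rigidity** -/
theorem quot_rigid [Finite G] (R : RGD cs h p T n X) (t : ↥(T.map π))
    (ht : ∀ i, (quotD K R).a i t = 1) : t = 1 := by
  obtain ⟨_, s, hs, rfl⟩ := t
  have hs' : s ∈ T := hs
  exact Subtype.ext (K.of ⟨s, hs'⟩ fun i => (quotD_a K R i ⟨s, hs'⟩ (Subgroup.mem_map_of_mem π hs')).symm.trans (ht i))

theorem quot_GG (hG : GG cs h T X = ⊤) : GG cs h (T.map π) (fun x => (X x).map π) = ⊤ := by
  have h1 : GG cs h (T.map π) (fun x => (X x).map π) = (GG cs h T X).map π := by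
    unfold GG
    rw [Subgroup.map_sup]
    congr 1
    unfold RGD.Sup
    rw [Subgroup.map_iSup]
  rw [h1, hG, ← MonoidHom.range_eq_map]
  exact MonoidHom.range_eq_top.2 K.surj

theorem quot_comm (hc : ∀ s ∈ T, ∀ t ∈ T, Commute s t) : ∀ s ∈ T.map π, ∀ t ∈ T.map π, Commute s t := by
  rintro _ ⟨s, hs, rfl⟩ _ ⟨t, ht, rfl⟩
  exact (hc s hs t ht).map π

/-- **the anti-automorphism of the quotient** -/
theorem exists_anti {φ : G → G} (hφ : H92.GG.Anti cs h T X φ) :
    ∃ φ' : Y → Y, (∀ g, φ' (π g) = π (φ g)) ∧ H92.GG.Anti cs h (T.map π) (fun x => (X x).map π) φ' := by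
  have hone : φ 1 = 1 := hφ.tor 1 (one_mem T)
  let f : G →* Yᵐᵒᵖ :=
    { toFun := fun g => MulOpposite.op (π (φ g))
      map_one' := by rw [hone, map_one]; rfl
      map_mul' := fun a b => by rw [hφ.mul, map_mul]; rfl }
  have hf : π.ker ≤ f.ker := by
    intro z hz
    have hz' : π z = 1 := hz
    show MulOpposite.op (π (φ z)) = 1
    rw [hφ.tor z (K.mem z hz'), hz']
    rfl
  let f' : Y →* Yᵐᵒᵖ := π.liftOfRightInverse (Function.surjInv K.surj) (Function.rightInverse_surjInv K.surj) ⟨f, hf⟩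
  have hf' : ∀ g, f' (π g) = MulOpposite.op (π (φ g)) := fun g =>
    MonoidHom.liftOfRightInverse_comp_apply π _ (Function.rightInverse_surjInv K.surj) _ g
  refine ⟨fun y => (f' y).unop, fun g => congrArg MulOpposite.unop (hf' g), ?_, ?_, ?_, ?_⟩
  · intro x y
    show (f' (x * y)).unop = (f' y).unop * (f' x).unop
    rw [map_mul]
    rfl
  · intro x
    obtain ⟨g, rfl⟩ := K.surj x
    show (f' (f' (π g)).unop).unop = π g
    rw [hf', MulOpposite.unop_op, hf', MulOpposite.unop_op, hφ.invo]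
  · rintro a ha _ ⟨x, hx, rfl⟩
    show (f' (π x)).unop ∈ _
    rw [hf', MulOpposite.unop_op]
    exact ⟨_, hφ.root a ha x hx, rfl⟩
  · rintro _ ⟨t, ht, rfl⟩
    show (f' (π t)).unop = π t
    rw [hf', MulOpposite.unop_op, hφ.tor t ht]

end

/-! ### a larger torus -/

/-- **root group datum with a larger torus** -/
theorem rgd_enlarge (R : RGD cs h p T n X) {T' : Subgroup G} (hle : T ≤ T') (hn : ∀ i, n i ∈ Subgroup.normalizer (T' : Set G))
    (htor : ∀ x, IsRoot cs h x → ∀ t ∈ T', cj t (X x) = X x) (hcop : (Nat.card T').Coprime p) :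
    RGD cs h p T' n X where
  nsys := ⟨hn, fun i j => hle (R.nsys.rel i j)⟩
  conj := R.conj
  tor := htor
  comm := R.comm
  rk1 i u hu hne := by
    obtain ⟨a, ha, t, ht, b, hb, e⟩ := R.rk1 i u hu hne
    exact ⟨a, ha, t, hle ht, b, hb, e⟩
  pgrp := R.pgrp
  notp := R.notp
  tcop := hcop

/-- the anti-automorphism in the form of helper148 -/
theorem anti148 [Finite W] {R : RGD cs h p T n X} {φ : G → G} (hφ : H92.GG.Anti cs h T X φ) : H148.GG.Anti R φ where
  mul := hφ.mul
  sq := hφ.invo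
  tor := hφ.tor
  root := hφ.root
  rp i := by
    have h1 := hφ.rp R (rp_simple cs R.nsys i)
    rwa [cs.inv_simple] at h1

end Cfsg.Agent.H356.AQ
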