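import Cfsg.Agent.H356.AQ.GU

/-!
# Coordinates on the simple root groups of the unitary group `GJ` (S4884, helper356)
-/

set_option autoImplicit false
set_option linter.unusedSectionVars false
set_option linter.unusedSimpArgs false

namespace Cfsg.Agent.H356.AQ

open Matrix Cfsg Cfsg.Agent.H356.TA Cfsg.Agent.H356.TU Cfsg.Agent.LieClassical.HermBasic
  Cfsg.Agent.LieClassical.HermSiegel
open Cfsg.Agent.TitsThree Cfsg.Agent.TitsThree.Siegel Cfsg.Agent.TitsThree.SiegelGen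
  Cfsg.Agent.TitsThree.WittFrame Cfsg.Agent.TitsThree.WBridge Cfsg.Agent.TitsThree.WittWeyl
  Cfsg.Agent.TitsThree.FrameCN Cfsg.Agent.TitsThree.KSideU Cfsg.Agent.TitsThree.KSideUDesc
open Cfsg.Agent.TitsThree.KSideA Cfsg.Agent.Nodes.RGDTypeA
open CoxeterSystem Cfsg.Agent.ChevalleyStructure.CoxeterGeom Cfsg.Agent.Tits.Roots
  Cfsg.Agent.Nodes.Comb Cfsg.Agent.Nodes.Reps Cfsg.Agent.Nodes.BNOf Cfsg.Agent.Nodes.RGDLib
open Cfsg.Agent.Nodes.RGDAllP Cfsg.Agent.Nodes.WittU Cfsg.Agent.Nodes.OppDec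
open Cfsg.Agent.Nodes.TypeC (isCartan nx sg sg_sg exists_of_isRoot)
open Cfsg.Agent.Nodes.WittRoot (Amb Mono rg rg_eq)
open Cfsg.Agent.Nodes.WittRGD (Tor nn nn_mem nn_mem_sup mono_nn)
open Cfsg.Agent.H148.GG (Adj)

section

variable {n : ℕ}

/-- the row of the simple root `i` -/
def ix (i : Fin ((n + 1) / 2)) : Fin (n + 1) := ⟨i, by omega⟩

/-- the column of the simple root `i` -/
def iy (i : Fin ((n + 1) / 2)) : Fin (n + 1) := ⟨i + 1, by omega⟩

theorem pos_true' (i : Fin ((n + 1) / 2)) : pos n (i, true) = ix i := rfl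

theorem ix_ne_iy (i : Fin ((n + 1) / 2)) : ix i ≠ iy i := by
  intro h
  have h1 := congrArg Fin.val h
  change (i : ℕ) = i + 1 at h1
  omega

theorem iy_A {i : Fin ((n + 1) / 2)} (hi : (i : ℕ) + 1 < (n + 1) / 2) :
    (pos n (⟨i + 1, hi⟩, false)).rev = iy i := by
  rw [pos_false, Fin.rev_rev]
  rfl

theorem iy_B {i : Fin ((n + 1) / 2)} (hi : ¬ (i : ℕ) + 1 < (n + 1) / 2) (hn : ¬ Even n) :
    (ix i).rev = iy i := by
  have hi' := i.2
  apply Fin.ext
  rw [Fin.val_rev]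
  change n + 1 - ((i : ℕ) + 1) = i + 1
  have h2 : n % 2 = 1 := by rcases Nat.mod_two_eq_zero_or_one n with h | h
                            · exact absurd (Nat.even_iff.2 h) hn
                            · exact h
  omega

theorem iy_C {i : Fin ((n + 1) / 2)} (hi : ¬ (i : ℕ) + 1 < (n + 1) / 2) (hn : Even n) :
    iy i = mi n := by
  have hi' := i.2
  apply Fin.ext
  change (i : ℕ) + 1 = n / 2
  have h2 := Nat.even_iff.1 hn
  omega

theorem two_mul_iff (i : Fin ((n + 1) / 2)) : 2 * (i : ℕ) + 2 = n + 1 ↔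
    (¬ (i : ℕ) + 1 < (n + 1) / 2 ∧ ¬ Even n) := by
  have hi' := i.2
  rw [Nat.even_iff]
  omega

end

section

variable {F : Type*} [Field F] [Fintype F] {q : ℕ} (hF : Fintype.card F = q ^ 2)

/-- an element of trace zero -/
noncomputable def x0 : F := (exists_trace_zero_ne hF).choose

theorem x0_ne : x0 hF ≠ 0 := (exists_trace_zero_ne hF).choose_spec.1

theorem x0_pow : (x0 hF) ^ q = -x0 hF := eq_neg_of_add_eq_zero_right (exists_trace_zero_ne hF).choose_spec.2

variable (n : ℕ)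

/-- the scaling factor -/
noncomputable def kap (i : Fin ((n + 1) / 2)) : F := if 2 * (i : ℕ) + 2 = n + 1 then x0 hF else 1

theorem kap_ne (i : Fin ((n + 1) / 2)) : kap hF n i ≠ 0 := by
  unfold kap
  split_ifs
  · exact x0_ne hF
  · exact one_ne_zero

/-- the field of the simple root `i` -/
def Ki (i : Fin ((n + 1) / 2)) : Subfield F where
  carrier := {x | 2 * (i : ℕ) + 2 = n + 1 → x ^ q = x}
  mul_mem' := fun {a b} ha hb h => by rw [mul_pow, ha h, hb h]
  one_mem' := fun _ => one_pow _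
  add_mem' := fun {a b} ha hb h => by rw [add_pow_q hF, ha h, hb h]
  zero_mem' := fun _ => zero_pow_q hF
  neg_mem' := fun {a} ha h => by rw [neg_pow_q hF, ha h]
  inv_mem' := fun a ha h => by rw [inv_pow, ha h]

variable {hF n}

theorem mem_Ki {i : Fin ((n + 1) / 2)} {x : F} : x ∈ Ki hF n i ↔ (2 * (i : ℕ) + 2 = n + 1 → x ^ q = x) := Iff.rfl

end

section

variable {F : Type*} [Field F] [Fintype F] {q : ℕ} {hF : Fintype.card F = q ^ 2} {n : ℕ}

/-- upper unitriangular matrices -/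
def UT (u : GJ hF n) : Prop := ∀ x y, y ≤ x → u.1.1 x y = if x = y then 1 else 0

theorem UT_entry {u v : GJ hF n} (hu : UT u) (hv : UT v) (i : Fin ((n + 1) / 2)) :
    (u * v).1.1 (ix i) (iy i) = u.1.1 (ix i) (iy i) + v.1.1 (ix i) (iy i) := by
  rw [mul_val, Matrix.mul_apply, Fintype.sum_eq_add (iy i) (ix i) (ix_ne_iy i).symm]
  · rw [hv (iy i) (iy i) le_rfl, if_pos rfl, hu (ix i) (ix i) le_rfl, if_pos rfl, mul_one, one_mul]
  · rintro z ⟨h1, h2⟩
    rcases lt_or_gt_of_ne h2 with h | h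
    · rw [hu (ix i) z h.le, if_neg h.ne', zero_mul]
    · have h3 : iy i < z := by
        have h4 : (i : ℕ) < z := h
        have h5 : (z : ℕ) ≠ i + 1 := fun e => h1 (Fin.ext e)
        rw [Fin.lt_def]
        change (i : ℕ) + 1 < z
        omega
      rw [hv z (iy i) h3.le, if_neg h3.ne', mul_zero]

theorem UT_mX {a b : Fin ((n + 1) / 2) × Bool} (hab : a.1 ≠ b.1) (h1 : pos n a < (pos n b).rev)
    (h2 : pos n b < (pos n a).rev) {s : SJ hF n} {t : F} (hs : s.1 = mX q a b t) : UT (iota s) := by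
  intro x y hxy
  rw [iota_val, hs]
  unfold mX
  rw [tv_tv_apply (pos_ne_rev a b hab) (pos_ne_rev b a hab.symm) (fun h => pos_ne_self_rev b h.symm)]
  rw [if_neg (c := x = pos n a ∧ y = (pos n b).rev), if_neg (c := x = pos n b ∧ y = (pos n a).rev), add_zero, add_zero]
  · rintro ⟨rfl, rfl⟩
    exact absurd hxy (not_le.2 h2)
  · rintro ⟨rfl, rfl⟩
    exact absurd hxy (not_le.2 h1)

theorem pos_lt_rev (i : Fin ((n + 1) / 2)) : pos n (i, true) < (pos n (i, true)).rev := by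
  rw [Fin.lt_def, Fin.val_rev, val_pos_true]
  have := i.2
  omega

theorem pos_lt_mi (hn : Even n) (i : Fin ((n + 1) / 2)) : pos n (i, true) < mi n ∧ mi n < (pos n (i, true)).rev := by
  rw [Fin.lt_def, Fin.lt_def, Fin.val_rev, val_pos_true, mi_val]
  have := i.2
  have h2 := Nat.even_iff.1 hn
  omega

theorem UT_mZ {i : Fin ((n + 1) / 2)} {s : SJ hF n} {ω c : F} (hω : ¬ Even n → ω = 0)
    (hs : s.1 = mZ q (i, true) ω c) : UT (iota s) := by
  intro x y hxy
  rw [iota_val, hs]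
  unfold mZ
  have h3 : ¬ (x = pos n (i, true) ∧ y = (pos n (i, true)).rev) := by
    rintro ⟨rfl, rfl⟩
    exact absurd hxy (not_le.2 (pos_lt_rev i))
  by_cases hn : Even n
  · rw [tv_tv_tv_apply (pos_rev_ne_mid hn _).symm (pos_ne_mid hn _) (pos_ne_self_rev _)]
    have h1 : ¬ (x = mi n ∧ y = (pos n (i, true)).rev) := by
      rintro ⟨rfl, rfl⟩
      exact absurd hxy (not_le.2 (pos_lt_mi hn i).2)
    have h2 : ¬ (x = pos n (i, true) ∧ y = mi n) := by
      rintro ⟨rfl, rfl⟩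
      exact absurd hxy (not_le.2 (pos_lt_mi hn i).1)
    rw [if_neg h1, if_neg h2, if_neg h3, add_zero, add_zero, add_zero]
  · rw [hω hn, tv_zero, one_mul, zero_pow (q_pos hF).ne', neg_zero, tv_zero, one_mul,
      tv_apply (pos_ne_self_rev _), if_neg h3, add_zero]

/-! ### the entries of the elements of the simple root groups -/

theorem ent_A {i : Fin ((n + 1) / 2)} (hi : (i : ℕ) + 1 < (n + 1) / 2) {s : SJ hF n} {t : F}
    (hs : s.1 = mX q (i, true) (⟨i + 1, hi⟩, false) t) : (iota s).1.1 (ix i) (iy i) = t := by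
  have hab : ((i, true) : Fin ((n + 1) / 2) × Bool).1 ≠ ((⟨i + 1, hi⟩, false) : Fin ((n + 1) / 2) × Bool).1 := by
    simp [Fin.ext_iff]
  rw [iota_val, hs]
  unfold mX
  rw [tv_tv_apply (pos_ne_rev _ _ hab) (pos_ne_rev _ _ hab.symm) (fun h => pos_ne_self_rev _ h.symm),
    if_neg (ix_ne_iy i), if_pos ⟨rfl, (iy_A hi).symm⟩, if_neg, zero_add, add_zero]
  rintro ⟨h1, -⟩
  have h2 := congrArg Fin.val h1
  rw [val_pos_false] at h2
  change (i : ℕ) = n - (i + 1) at h2
  omega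

theorem ent_B {i : Fin ((n + 1) / 2)} (hi : ¬ (i : ℕ) + 1 < (n + 1) / 2) (hn : ¬ Even n) {s : SJ hF n} {ω c : F}
    (hω : ω = 0) (hs : s.1 = mZ q (i, true) ω c) : (iota s).1.1 (ix i) (iy i) = c := by
  rw [iota_val, hs]
  unfold mZ
  rw [hω, tv_zero, one_mul, zero_pow (q_pos hF).ne', neg_zero, tv_zero, one_mul,
      tv_apply (pos_ne_self_rev _), if_neg (ix_ne_iy i), pos_true', iy_B hi hn, if_pos ⟨rfl, rfl⟩, zero_add]

theorem ent_C {i : Fin ((n + 1) / 2)} (hi : ¬ (i : ℕ) + 1 < (n + 1) / 2) (hn : Even n) {s : SJ hF n} {ω c : F}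
    (hs : s.1 = mZ q (i, true) ω c) : (iota s).1.1 (ix i) (iy i) = -ω ^ q := by
  rw [iota_val, hs]
  unfold mZ
  rw [tv_tv_tv_apply (pos_rev_ne_mid hn _).symm (pos_ne_mid hn _) (pos_ne_self_rev _), if_neg (ix_ne_iy i), if_neg,
    pos_true', if_pos ⟨rfl, iy_C hi hn⟩, if_neg, zero_add, zero_add, add_zero]
  · rintro ⟨-, h⟩
    rw [iy_C hi hn] at h
    exact pos_rev_ne_mid hn (i, true) h.symm
  · rintro ⟨h, -⟩
    exact pos_ne_mid hn (i, true) h

variable (U : UB hF n)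

theorem mem_XG {x : Fin ((n + 1) / 2) → ℤ} {u : GJ hF n} : u ∈ XG U x ↔ ∃ s ∈ U.XS x, iota s = u := Iff.rfl

/-- the elements of the simple root groups are unitriangular -/
theorem UT_sr {i : Fin ((n + 1) / 2)} {u : GJ hF n} (hu : u ∈ XG U (sr i)) : UT u := by
  obtain ⟨s, hs, rfl⟩ := (mem_XG U).1 hu
  by_cases hi : (i : ℕ) + 1 < (n + 1) / 2
  · obtain ⟨t, ht⟩ := (UB.mem_XS_sr hi).1 hs
    refine UT_mX (by simp [Fin.ext_iff]) ?_ ?_ ht
    · rw [iy_A hi, Fin.lt_def]
      exact Nat.lt_succ_self _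
    · rw [Fin.lt_def, Fin.val_rev, val_pos_false, val_pos_true]
      change n - (i + 1) < n + 1 - (i + 1)
      omega
  · obtain ⟨ω, c, hc, hω, ht⟩ := (UB.mem_XS_sr' hi).1 hs
    exact UT_mZ hω ht

theorem ent_mem {i : Fin ((n + 1) / 2)} {u : GJ hF n} (hu : u ∈ XG U (sr i)) :
    u.1.1 (ix i) (iy i) / kap hF n i ∈ Ki hF n i := by
  intro h
  obtain ⟨hi, hn⟩ := (two_mul_iff i).1 h
  obtain ⟨s, hs, rfl⟩ := (mem_XG U).1 hu
  obtain ⟨ω, c, hc, hω, ht⟩ := (UB.mem_XS_sr' hi).1 hs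
  rw [ent_B hi hn (hω hn) ht]
  unfold kap
  rw [if_pos h, div_pow, x0_pow]
  rw [hω hn, zero_mul, neg_zero] at hc
  rw [eq_neg_of_add_eq_zero_right hc, neg_div_neg_eq]

/-- the coordinates of the simple root groups -/
noncomputable def xU (i : Fin ((n + 1) / 2)) : ↥(XG U (sr i)) →* Multiplicative (Ki hF n i) where
  toFun u := Multiplicative.ofAdd ⟨u.1.1.1 (ix i) (iy i) / kap hF n i, ent_mem U u.2⟩
  map_one' := by
    apply Multiplicative.toAdd.injective
    apply Subtype.ext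
    change (1 : Matrix (Fin (n + 1)) (Fin (n + 1)) F) (ix i) (iy i) / kap hF n i = 0
    rw [Matrix.one_apply_ne (ix_ne_iy i), zero_div]
  map_mul' u v := by
    apply Multiplicative.toAdd.injective
    apply Subtype.ext
    change (u.1 * v.1).1.1 (ix i) (iy i) / kap hF n i = u.1.1.1 (ix i) (iy i) / kap hF n i +
      v.1.1.1 (ix i) (iy i) / kap hF n i
    rw [UT_entry (UT_sr U u.2) (UT_sr U v.2), add_div]

theorem xU_val (i : Fin ((n + 1) / 2)) (u : ↥(XG U (sr i))) :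
    ((Multiplicative.toAdd (xU U i u) : Ki hF n i) : F) = u.1.1.1 (ix i) (iy i) / kap hF n i := rfl

theorem xU_eq_one (i : Fin ((n + 1) / 2)) (u : ↥(XG U (sr i))) (h : xU U i u = 1) : u.1.1.1 (ix i) (iy i) = 0 := by
  have h1 := xU_val U i u
  rw [h] at h1
  have h2 : u.1.1.1 (ix i) (iy i) / kap hF n i = 0 := h1.symm
  exact (div_eq_zero_iff.1 h2).resolve_right (kap_ne hF n i)

/-! ### the characters of the torus -/

theorem al_mem (i : Fin ((n + 1) / 2)) {t : GJ hF n} (ht : t ∈ TG hF n) :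
    t.1.1 (ix i) (ix i) / t.1.1 (iy i) (iy i) ∈ Ki hF n i := by
  intro h
  obtain ⟨hi, hn⟩ := (two_mul_iff i).1 h
  have h1 := TG_unit ht (ix i)
  rw [iy_B hi hn] at h1
  have h2 := TG_unit ht (iy i)
  rw [← iy_B hi hn, Fin.rev_rev, iy_B hi hn] at h2
  have e1 := eq_inv_of_mul_eq_one_left h1
  have e2 := eq_inv_of_mul_eq_one_right h2
  rw [div_pow, e2, e1, div_eq_mul_inv, div_eq_mul_inv, mul_comm]

/-- the characters of the torus -/
noncomputable def aU (hF : Fintype.card F = q ^ 2) (n : ℕ) (i : Fin ((n + 1) / 2)) : ↥(TG hF n) →* (Ki hF n i)ˣ where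
  toFun t := Units.mk0 ⟨t.1.1.1 (ix i) (ix i) / t.1.1.1 (iy i) (iy i), al_mem i t.2⟩ (by
    intro h
    have h1 := congrArg Subtype.val h
    exact (div_ne_zero (diag_ne t.2 _) (diag_ne t.2 _)) h1)
  map_one' := by
    apply Units.ext
    apply Subtype.ext
    change (1 : Matrix (Fin (n + 1)) (Fin (n + 1)) F) (ix i) (ix i) /
      (1 : Matrix (Fin (n + 1)) (Fin (n + 1)) F) (iy i) (iy i) = 1
    rw [Matrix.one_apply_eq, Matrix.one_apply_eq, div_one]
  map_mul' s t := by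
    apply Units.ext
    apply Subtype.ext
    change (s.1 * t.1).1.1 (ix i) (ix i) / (s.1 * t.1).1.1 (iy i) (iy i) =
      (s.1.1.1 (ix i) (ix i) / s.1.1.1 (iy i) (iy i)) * (t.1.1.1 (ix i) (ix i) / t.1.1.1 (iy i) (iy i))
    rw [TG_mul s.2, TG_mul s.2, mul_div_mul_comm]

theorem aU_val (i : Fin ((n + 1) / 2)) (t : ↥(TG hF n)) :
    (((aU hF n i t : (Ki hF n i)ˣ) : Ki hF n i) : F) = t.1.1.1 (ix i) (ix i) / t.1.1.1 (iy i) (iy i) := rfl

theorem aU_eq_one {i : Fin ((n + 1) / 2)} {t : ↥(TG hF n)} (h : aU hF n i t = 1) :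
    t.1.1.1 (ix i) (ix i) = t.1.1.1 (iy i) (iy i) := by
  have h1 := aU_val i t
  rw [h] at h1
  have h2 : t.1.1.1 (ix i) (ix i) / t.1.1.1 (iy i) (iy i) = 1 := h1.symm
  exact (div_eq_one_iff_eq (diag_ne t.2 _)).1 h2

/-! ### diagonal elements -/

/-- diagonal elements of the unitary group -/
theorem exists_diag (d : Fin (n + 1) → F) (hd : ∀ x, d x * (d x.rev) ^ q = 1) :
    ∃ g : GJ hF n, g ∈ TG hF n ∧ ∀ x, g.1.1 x x = d x := by
  have hne : ∀ x, d x ≠ 0 := fun x h => by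
    have := hd x
    rw [h, zero_mul] at this
    exact zero_ne_one this
  let D : GL (Fin (n + 1)) F := ⟨diagonal d, diagonal fun x => (d x)⁻¹, by
      rw [diagonal_mul_diagonal, ← diagonal_one]
      congr 1
      funext x
      exact mul_inv_cancel₀ (hne x), by
      rw [diagonal_mul_diagonal, ← diagonal_one]
      congr 1
      funext x
      exact inv_mul_cancel₀ (hne x)⟩
  have hD : D ∈ GJ hF n := by
    rw [mem_GJ']
    intro x y
    rw [Finset.sum_eq_single x]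
    · change diagonal d x x * (diagonal d x.rev y) ^ q = _
      rw [diagonal_apply_eq]
      by_cases h : y = x.rev
      · rw [if_pos h, h, diagonal_apply_eq, hd]
      · rw [if_neg h, diagonal_apply_ne _ (fun e => h e.symm), zero_pow_q hF, mul_zero]
    · intro z _ hz
      change diagonal d z x * _ = 0
      rw [diagonal_apply_ne _ hz, zero_mul]
    · intro h; exact absurd (Finset.mem_univ _) h
  refine ⟨⟨D, hD⟩, fun x y hxy => ?_, fun x => ?_⟩
  · exact diagonal_apply_ne _ hxy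
  · exact diagonal_apply_eq _ _

/-- a norm root -/
theorem exists_nrt (hF : Fintype.card F = q ^ 2) {c : F} (hc : c ≠ 0) (h : ¬ Even n → c ^ q = c) : ∃ e : F, e ≠ 0 ∧ (¬ Even n → e * e ^ q = c) ∧
    (Even n → e = c) := by
  by_cases hn : Even n
  · exact ⟨c, hc, fun h => absurd hn h, fun _ => rfl⟩
  · obtain ⟨e, he, he'⟩ := exists_norm_eq_ne hF (h hn) hc
    exact ⟨e, he, fun _ => he', fun h => absurd h hn⟩

/-- **surjectivity of the torus** -/
theorem exists_torus (c : ∀ i, (Ki hF n i)ˣ) : ∃ t : ↥(TG hF n), ∀ i, aU hF n i t = c i := by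
  classical
  let cc : ℕ → F := fun j => if h : j < (n + 1) / 2 then ((c ⟨j, h⟩ : Ki hF n ⟨j, h⟩) : F) else 1
  have hcc : ∀ j, cc j ≠ 0 := by
    intro j
    change (if h : j < (n + 1) / 2 then ((c ⟨j, h⟩ : Ki hF n ⟨j, h⟩) : F) else 1) ≠ 0
    split_ifs with h
    · intro h1
      exact (c ⟨j, h⟩).ne_zero (Subtype.ext h1)
    · exact one_ne_zero
  have hce : ∀ i : Fin ((n + 1) / 2), cc i = ((c i : Ki hF n i) : F) := by
    intro i
    change (if h : (i : ℕ) < (n + 1) / 2 then ((c ⟨i, h⟩ : Ki hF n ⟨i, h⟩) : F) else 1) = _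
    rw [dif_pos i.2]
  have hl : ¬ Even n → (cc ((n + 1) / 2 - 1)) ^ q = cc ((n + 1) / 2 - 1) := by
    intro hn
    have h2 : n % 2 = 1 := by
      rcases Nat.mod_two_eq_zero_or_one n with h | h
      · exact absurd (Nat.even_iff.2 h) hn
      · exact h
    have h3 : (n + 1) / 2 - 1 < (n + 1) / 2 := by omega
    have h4 := hce ⟨(n + 1) / 2 - 1, h3⟩
    change cc ((n + 1) / 2 - 1) = _ at h4
    rw [h4]
    exact (c ⟨(n + 1) / 2 - 1, h3⟩ : Ki hF n ⟨(n + 1) / 2 - 1, h3⟩).2 (by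
      change 2 * ((n + 1) / 2 - 1) + 2 = n + 1
      omega)
  obtain ⟨e, he0, he1, he2⟩ := exists_nrt (n := n) hF (hcc ((n + 1) / 2 - 1)) hl
  obtain ⟨f, hf⟩ : ∃ f : ℕ → F, ∀ k, f k = e * ∏ j ∈ (Finset.range ((n + 1) / 2 - 1)).filter (fun j => k ≤ j), cc j :=
    ⟨_, fun _ => rfl⟩
  have hf0 : ∀ k, f k ≠ 0 := by
    intro k
    rw [hf]
    exact mul_ne_zero he0 (Finset.prod_ne_zero_iff.2 fun j _ => hcc j)
  have hf1 : ∀ k, k + 1 < (n + 1) / 2 → f k = f (k + 1) * cc k := by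
    intro k hk
    rw [hf, hf]
    have e1 : (Finset.range ((n + 1) / 2 - 1)).filter (fun j => k ≤ j) =
        insert k ((Finset.range ((n + 1) / 2 - 1)).filter (fun j => k + 1 ≤ j)) := by
      ext j
      simp only [Finset.mem_filter, Finset.mem_range, Finset.mem_insert]
      omega
    rw [e1, Finset.prod_insert (by simp)]
    ring
  have hf2 : ∀ k, ¬ k + 1 < (n + 1) / 2 → f k = e := by
    intro k hk
    rw [hf]
    have e1 : (Finset.range ((n + 1) / 2 - 1)).filter (fun j => k ≤ j) = ∅ := by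
      ext j
      simp only [Finset.mem_filter, Finset.mem_range, Finset.notMem_empty, iff_false]
      omega
    rw [e1, Finset.prod_empty, mul_one]
  obtain ⟨d, hd⟩ : ∃ d : Fin (n + 1) → F, ∀ x, d x = if (x : ℕ) < (n + 1) / 2 then f x else
      if (x.rev : ℕ) < (n + 1) / 2 then ((f x.rev) ^ q)⁻¹ else 1 := ⟨_, fun _ => rfl⟩
  have hdu : ∀ x, d x * (d x.rev) ^ q = 1 := by
    intro x
    have hx := Fin.val_rev x
    have hx2 := x.2
    rw [hd x, hd x.rev, Fin.rev_rev]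
    by_cases h1 : (x : ℕ) < (n + 1) / 2
    · have h2 : ¬ (x.rev : ℕ) < (n + 1) / 2 := by omega
      rw [if_pos h1, if_neg h2, if_pos h1, inv_pow, pow_q_pow_q hF, mul_inv_cancel₀ (hf0 _)]
    · rw [if_neg h1, if_neg h1]
      by_cases h2 : (x.rev : ℕ) < (n + 1) / 2
      · rw [if_pos h2, if_pos h2, inv_mul_cancel₀ (pow_ne_zero _ (hf0 _))]
      · rw [if_neg h2, if_neg h2, one_pow, one_mul]
  obtain ⟨g, hg, hgd⟩ := exists_diag (hF := hF) d hdu
  refine ⟨⟨g, hg⟩, fun i => ?_⟩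
  apply Units.ext
  apply Subtype.ext
  rw [aU_val]
  change g.1.1 (ix i) (ix i) / g.1.1 (iy i) (iy i) = _
  have hi2 := i.2
  have hix : ((ix i : Fin (n + 1)) : ℕ) = i := rfl
  have hiy : ((iy i : Fin (n + 1)) : ℕ) = i + 1 := rfl
  have hiyr := Fin.val_rev (iy i)
  rw [hiy] at hiyr
  rw [hgd, hgd, hd (ix i), hd (iy i), hix, if_pos hi2, ← hce i, hiy]
  by_cases hi : (i : ℕ) + 1 < (n + 1) / 2
  · rw [if_pos hi, hf1 _ hi, mul_div_cancel_left₀ _ (hf0 _)]
  · have hil : (i : ℕ) = (n + 1) / 2 - 1 := by omega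
    rw [if_neg hi, hf2 _ hi]
    by_cases hn : Even n
    · have h2 := Nat.even_iff.1 hn
      rw [if_neg (by omega), div_one, he2 hn, ← hil]
    · have h2 : n % 2 = 1 := by
        rcases Nat.mod_two_eq_zero_or_one n with h | h
        · exact absurd (Nat.even_iff.2 h) hn
        · exact h
      have h3 : (((iy i).rev : Fin (n + 1)) : ℕ) = i := by omega
      rw [if_pos (by omega), h3, hf2 _ hi, div_inv_eq_mul, he1 hn, ← hil]

/-! ### surjectivity, linearity, kernels -/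

theorem surj_xU (i : Fin ((n + 1) / 2)) : Function.Surjective (xU U i) := by
  intro y
  obtain ⟨y, hy⟩ := y
  by_cases hi : (i : ℕ) + 1 < (n + 1) / 2
  · obtain ⟨s, hs⟩ := exists_mX U (a := (i, true)) (b := (⟨i + 1, hi⟩, false)) (by simp [Fin.ext_iff]) y
    refine ⟨⟨iota s, s, (UB.mem_XS_sr hi).2 ⟨y, hs⟩, rfl⟩, ?_⟩
    apply Multiplicative.toAdd.injective
    apply Subtype.ext
    rw [xU_val]
    change (iota s).1.1 (ix i) (iy i) / kap hF n i = y
    rw [ent_A hi hs]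
    unfold kap
    rw [if_neg (fun h => ((two_mul_iff i).1 h).1 hi), div_one]
  · by_cases hn : Even n
    · obtain ⟨c, hc⟩ := exists_trace_eq hF (c := -((-y) ^ q * ((-y) ^ q) ^ q)) (by
        rw [neg_pow_q hF, norm_pow_q hF])
      obtain ⟨s, hs⟩ := exists_mZ U (i, true) (ω := (-y) ^ q) (c := c) hc (fun h => absurd hn h)
      refine ⟨⟨iota s, s, (UB.mem_XS_sr' hi).2 ⟨_, _, hc, fun h => absurd hn h, hs⟩, rfl⟩, ?_⟩
      apply Multiplicative.toAdd.injective
      apply Subtype.ext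
      rw [xU_val]
      change (iota s).1.1 (ix i) (iy i) / kap hF n i = y
      rw [ent_C hi hn hs, pow_q_pow_q hF, _root_.neg_neg]
      unfold kap
      rw [if_neg (fun h => ((two_mul_iff i).1 h).2 hn), div_one]
    · have h2 : 2 * (i : ℕ) + 2 = n + 1 := (two_mul_iff i).2 ⟨hi, hn⟩
      have hy' := hy h2
      have hc : y * x0 hF + (y * x0 hF) ^ q = -((0 : F) * 0 ^ q) := by
        rw [mul_pow, hy', x0_pow, zero_mul]
        ring
      obtain ⟨s, hs⟩ := exists_mZ U (i, true) (ω := 0) (c := y * x0 hF) hc (fun _ => rfl)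
      refine ⟨⟨iota s, s, (UB.mem_XS_sr' hi).2 ⟨_, _, hc, fun _ => rfl, hs⟩, rfl⟩, ?_⟩
      apply Multiplicative.toAdd.injective
      apply Subtype.ext
      rw [xU_val]
      change (iota s).1.1 (ix i) (iy i) / kap hF n i = y
      rw [ent_B hi hn rfl hs]
      unfold kap
      rw [if_pos h2, mul_div_cancel_right₀ _ (x0_ne hF)]

theorem single_apply' {a b : Fin (n + 1)} (t : F) (x y : Fin (n + 1)) :
    (single a b t : Matrix (Fin (n + 1)) (Fin (n + 1)) F) x y = if x = a ∧ y = b then t else 0 := by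
  rw [Matrix.single_apply]
  by_cases h : a = x ∧ b = y
  · rw [if_pos h, if_pos ⟨h.1.symm, h.2.symm⟩]
  · rw [if_neg h, if_neg (fun h' => h ⟨h'.1.symm, h'.2.symm⟩)]

theorem mZ_mat (hn : Even n) (a : Fin ((n + 1) / 2) × Bool) (ω c : F) :
    (mZ q a ω c : SpecialLinearGroup (Fin (n + 1)) F).1 = 1 + single (mi n) (pos n a).rev ω +
      single (pos n a) (mi n) (-ω ^ q) + single (pos n a) (pos n a).rev c := by
  ext x y
  unfold mZ
  rw [tv_tv_tv_apply (pos_rev_ne_mid hn a).symm (pos_ne_mid hn a) (pos_ne_self_rev a), Matrix.add_apply,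
    Matrix.add_apply, Matrix.add_apply, Matrix.one_apply, single_apply', single_apply', single_apply']

/-- the product of two elements of type II -/
theorem mZ_mul (hF : Fintype.card F = q ^ 2) (hn : Even n) {a : Fin ((n + 1) / 2) × Bool} (ω c ω' c' : F) :
    mZ q a ω c * mZ q a ω' c' = (mZ q a (ω + ω') (c + c' - ω ^ q * ω') : SpecialLinearGroup (Fin (n + 1)) F) := by
  apply Subtype.ext
  change (mZ q a ω c).1 * (mZ q a ω' c').1 = _
  rw [mZ_mat hn, mZ_mat hn, mZ_mat hn]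
  have h1 : (pos n a).rev ≠ mi n := pos_rev_ne_mid hn a
  have h2 : pos n a ≠ mi n := pos_ne_mid hn a
  have h3 : pos n a ≠ (pos n a).rev := pos_ne_self_rev a
  simp only [Matrix.add_mul, Matrix.mul_add, Matrix.one_mul, Matrix.mul_one]
  rw [Matrix.single_mul_single_of_ne (h := h1), Matrix.single_mul_single_of_ne (h := h3.symm),
    Matrix.single_mul_single_of_ne (h := h3.symm), Matrix.single_mul_single_same,
    Matrix.single_mul_single_of_ne (h := h2.symm), Matrix.single_mul_single_of_ne (h := h2.symm),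
    Matrix.single_mul_single_of_ne (h := h1), Matrix.single_mul_single_of_ne (h := h3.symm),
    Matrix.single_mul_single_of_ne (h := h3.symm)]
  ext x y
  simp only [Matrix.add_apply, Matrix.one_apply, single_apply', Matrix.zero_apply]
  rw [add_pow_q hF]
  split_ifs <;> ring

/-- linear characters of a simple root group depend only on the coordinate -/
theorem lin_xU (i : Fin ((n + 1) / 2)) (ψ : ↥(XG U (sr i)) →* ℂˣ) (u : ↥(XG U (sr i)))
    (hu : u.1.1.1 (ix i) (iy i) = 0) : ψ u = 1 := by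
  obtain ⟨u, s, hs, rfl⟩ := u
  have hs' : s ∈ U.XS (sr i) := hs
  have hu' : (iota s).1.1 (ix i) (iy i) = 0 := hu
  have triv : s.1 = 1 → ψ ⟨iota s, s, hs, rfl⟩ = 1 := by
    intro h
    have h1 : (⟨iota s, s, hs, rfl⟩ : ↥(XG U (sr i))) = 1 := by
      apply Subtype.ext
      change iota s = 1
      rw [show s = 1 from Subtype.ext h, map_one]
    rw [h1, map_one]
  by_cases hi : (i : ℕ) + 1 < (n + 1) / 2
  · obtain ⟨t, ht⟩ := (UB.mem_XS_sr hi).1 hs'
    apply triv
    rw [ent_A hi ht] at hu'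
    rw [ht, hu']
    unfold mX
    rw [tv_zero, zero_pow (q_pos hF).ne', neg_zero, tv_zero, one_mul]
  · obtain ⟨ω, c, hc, hω, ht⟩ := (UB.mem_XS_sr' hi).1 hs'
    by_cases hn : Even n
    · rw [ent_C hi hn ht, neg_eq_zero, pow_q_eq_zero hF] at hu'
      rw [hu', zero_mul, neg_zero] at hc
      obtain ⟨y, hy⟩ := exists_trace_eq hF (c := (1 : F)) (one_pow q)
      obtain ⟨c1, hc1⟩ := exists_trace_eq hF (c := -((c * y) * (c * y) ^ q)) (by
        rw [neg_pow_q hF, norm_pow_q hF])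
      obtain ⟨c2, hc2⟩ := exists_trace_eq hF (c := -((1 : F) * 1 ^ q)) (by
        rw [neg_pow_q hF, norm_pow_q hF])
      obtain ⟨s1, hs1⟩ := exists_mZ U (i, true) hc1 (fun h => absurd hn h)
      obtain ⟨s2, hs2⟩ := exists_mZ U (i, true) hc2 (fun h => absurd hn h)
      have m1 : iota s1 ∈ XG U (sr i) := ⟨s1, (UB.mem_XS_sr' hi).2 ⟨_, _, hc1, fun h => absurd hn h, hs1⟩, rfl⟩
      have m2 : iota s2 ∈ XG U (sr i) := ⟨s2, (UB.mem_XS_sr' hi).2 ⟨_, _, hc2, fun h => absurd hn h, hs2⟩, rfl⟩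
      have h1 : s1 * s2 = s * (s2 * s1) := by
        apply Subtype.ext
        change s1.1 * s2.1 = s.1 * (s2.1 * s1.1)
        rw [hs1, hs2, ht, mZ_mul hF hn, mZ_mul hF hn, mZ_mul hF hn, hu']
        congr 1
        · ring
        · have h3 : c ^ q = -c := eq_neg_of_add_eq_zero_right hc
          rw [zero_pow (q_pos hF).ne', mul_pow, h3, one_pow]
          linear_combination c * hy
      have h2 : (⟨iota s1, m1⟩ : ↥(XG U (sr i))) * ⟨iota s2, m2⟩ =
          ⟨iota s, s, hs, rfl⟩ * (⟨iota s2, m2⟩ * ⟨iota s1, m1⟩) := by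
        apply Subtype.ext
        change iota s1 * iota s2 = iota s * (iota s2 * iota s1)
        rw [← map_mul, ← map_mul, ← map_mul, h1]
      have h3 := congrArg ψ h2
      rw [map_mul, map_mul, map_mul, mul_comm (ψ ⟨iota s2, m2⟩)] at h3
      exact (mul_eq_right.1 h3.symm)
    · apply triv
      rw [ent_B hi hn (hω hn) ht] at hu'
      rw [ht, hu', hω hn]
      unfold mZ
      rw [tv_zero, zero_pow (q_pos hF).ne', neg_zero, tv_zero, tv_zero, one_mul, one_mul]

/-- the kernel of a simple root centralises the root group -/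
theorem ker_aU {i : Fin ((n + 1) / 2)} {t : GJ hF n} (ht : t ∈ TG hF n)
    (h : t.1.1 (ix i) (ix i) = t.1.1 (iy i) (iy i)) {u : GJ hF n} (hu : u ∈ XG U (sr i)) : t * u = u * t := by
  obtain ⟨s, hs, rfl⟩ := (mem_XG U).1 hu
  have hne := diag_ne ht
  rw [← mul_inv_eq_iff_eq_mul]
  by_cases hi : (i : ℕ) + 1 < (n + 1) / 2
  · obtain ⟨w, hw⟩ := (UB.mem_XS_sr hi).1 hs
    refine mX_conj ht (a := (i, true)) (b := (⟨i + 1, hi⟩, false)) (by simp [Fin.ext_iff]) hw ?_
    rw [hw, iy_A hi, pos_true', h, mul_comm, ← mul_assoc, inv_mul_cancel₀ (hne _), one_mul]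
  · obtain ⟨ω, c, hc, hω, hw⟩ := (UB.mem_XS_sr' hi).1 hs
    refine mZ_conj ht (i, true) hω hw ?_
    rw [hw, pos_true']
    by_cases hn : Even n
    · have h1 := TG_unit ht (ix i)
      have h2 := TG_unit ht (mi n)
      rw [mid_rev hn] at h2
      rw [iy_C hi hn] at h
      have h3 := TG_unit ht (ix i).rev
      rw [Fin.rev_rev, h] at h3
      have h4 : t.1.1 (ix i).rev (ix i).rev = t.1.1 (mi n) (mi n) := by
        rw [eq_inv_of_mul_eq_one_left h3, ← eq_inv_of_mul_eq_one_left h2]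
      rw [h4, h]
      congr 1 <;>
      · have := hne (mi n)
        field_simp
    · rw [hω hn, iy_B hi hn, h, mul_zero, zero_mul]
      congr 1
      have := hne (iy i)
      field_simp

/-- **the coordinates of the unitary group** -/
noncomputable def adjU : Adj (TG hF n) (XG U) (fun i => Ki hF n i) where
  x i := xU U i
  a i := aU hF n i
  surjX i := surj_xU U i
  act i t u hu := by
    apply Subtype.ext
    change ((t : GJ hF n) * (u : GJ hF n) * (t : GJ hF n)⁻¹).1.1 (ix i) (iy i) / kap hF n i =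
      (t.1.1.1 (ix i) (ix i) / t.1.1.1 (iy i) (iy i)) * (u.1.1.1 (ix i) (iy i) / kap hF n i)
    rw [TG_conj t.2]
    field_simp
  lin i ψ u hu := lin_xU U i ψ u (xU_eq_one U i u hu)
  surjT := exists_torus
  ker i t ht u hu := ker_aU U t.2 (aU_eq_one ht) hu

end

end Cfsg.Agent.H356.AQ
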