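import Cfsg.Agent.H356.AQ.AdjU
import Cfsg.Agent.H379.GG.PGL

/-!
# The unitary group: anti-automorphism, generation, the quotient by the scalars (S4884, helper356)
-/

set_option autoImplicit false
set_option linter.unusedSectionVars false
set_option linter.unusedSimpArgs false

namespace Cfsg.Agent.H356.AQ

open Matrix Cfsg Cfsg.Agent.H356.TA Cfsg.Agent.H356.TU Cfsg.Agent.LieClassical.HermBasic
  Cfsg.Agent.LieClassical.HermSiegel
open Cfsg.Agent.TitsThree Cfsg.Agent.TitsThree.Siegel Cfsg.Agent.TitsThree.SiegelGen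
  Cfsg.Agent.TitsThree.WittFrame Cfsg.Agent.TitsThree.WBridge Cfsg.Agent.TitsThree.WittWeyl
  Cfsg.Agent.TitsThree.FrameCN Cfsg.Agent.TitsThree.KSideU Cfsg.Agent.TitsThree.KSideUDesc
open Cfsg.Agent.TitsThree.KSideA Cfsg.Agent.Nodes.RGDTypeA
open CoxeterSystem Cfsg.Agent.ChevalleyStructure.CoxeterGeom Cfsg.Agent.Tits.Roots
  Cfsg.Agent.Nodes.Comb Cfsg.Agent.Nodes.Reps Cfsg.Agent.Nodes.BNOf Cfsg.Agent.Nodes.RGDLib
open Cfsg.Agent.Nodes.RGDAllP Cfsg.Agent.Nodes.WittU Cfsg.Agent.Nodes.OppDec Cfsg.Agent.Nodes.Bruhat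
open Cfsg.Agent.Nodes.TypeC (isCartan nx sg sg_sg exists_of_isRoot ng wt wt_ng ee_neg)
open Cfsg.Agent.Nodes.WittRoot (Amb Mono rg rg_eq)
open Cfsg.Agent.Nodes.WittRGD (Tor nn nn_mem nn_mem_sup mono_nn)
open Cfsg.Agent.H148.GG (Adj)
open Cfsg.Agent.H379.GG (trG trG_mul trG_trG)

section

variable {F : Type*} [Field F] [Fintype F] {q : ℕ} {hF : Fintype.card F = q ^ 2} {n : ℕ}

theorem trG_mem {M : GL (Fin (n + 1)) F} (hM : M ∈ GJ hF n) : trG M ∈ GJ hF n := by
  rw [mem_GJ] at hM ⊢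
  show M.1ᵀᵀ * Jm F n * M.1ᵀ.map (conj hF) = Jm F n
  rw [Matrix.transpose_transpose]
  have h1 : M.1 * (M⁻¹).1 = 1 := by rw [← Units.val_mul, mul_inv_cancel, Units.val_one]
  have h2 : (M⁻¹).1ᵀ * M.1ᵀ = 1 := by rw [← Matrix.transpose_mul, h1, Matrix.transpose_one]
  have h3 : M.1.map (conj hF) = Jm F n * (M⁻¹).1ᵀ * Jm F n := by
    calc M.1.map (conj hF) = Jm F n * (((M⁻¹).1ᵀ * M.1ᵀ) * (Jm F n * M.1.map (conj hF))) := by
          rw [h2, Matrix.one_mul, ← Matrix.mul_assoc, Jm_Jm, Matrix.one_mul]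
      _ = Jm F n * (M⁻¹).1ᵀ * (M.1ᵀ * Jm F n * M.1.map (conj hF)) := by simp only [Matrix.mul_assoc]
      _ = _ := by rw [hM]
  have h4 : M.1ᵀ.map (conj hF) = Jm F n * (M⁻¹).1 * Jm F n := by
    rw [Matrix.transpose_map, h3, Matrix.transpose_mul, Matrix.transpose_mul, Matrix.transpose_transpose, Jm_transpose,
      Matrix.mul_assoc]
  rw [h4]
  calc M.1 * Jm F n * (Jm F n * (M⁻¹).1 * Jm F n) = M.1 * (Jm F n * Jm F n) * ((M⁻¹).1 * Jm F n) := by
        simp only [Matrix.mul_assoc]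
    _ = M.1 * (M⁻¹).1 * Jm F n := by rw [Jm_Jm, Matrix.mul_one, Matrix.mul_assoc]
    _ = Jm F n := by rw [h1, Matrix.one_mul]

/-- transposition on the unitary group -/
def trU (g : GJ hF n) : GJ hF n := ⟨trG g.1, trG_mem g.2⟩

theorem trU_val (g : GJ hF n) (x y : Fin (n + 1)) : (trU g).1.1 x y = g.1.1 y x := rfl

theorem pos_ng (a : Fin ((n + 1) / 2) × Bool) : pos n (ng a) = (pos n a).rev := pos_neg a

theorem mX_tr {a b : Fin ((n + 1) / 2) × Bool} (hab : a.1 ≠ b.1) {s s' : SJ hF n} {w : F} (hs : s.1 = mX q a b w)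
    (hs' : s'.1 = mX q (ng b) (ng a) w) : trU (iota s) = iota s' := by
  apply GJ_ext
  intro x y
  rw [trU_val, iota_val, iota_val, hs, hs']
  unfold mX
  have hba : (ng b).1 ≠ (ng a).1 := hab.symm
  rw [tv_tv_apply (pos_ne_rev a b hab) (pos_ne_rev b a hab.symm) (fun h => pos_ne_self_rev b h.symm),
    tv_tv_apply (pos_ne_rev _ _ hba) (pos_ne_rev _ _ hba.symm) (fun h => pos_ne_self_rev _ h.symm)]
  simp only [pos_ng, Fin.rev_rev]
  congr 1
  · congr 1
    · simp only [eq_comm]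
    · simp only [and_comm]
  · simp only [and_comm]

theorem mZ_tr {a : Fin ((n + 1) / 2) × Bool} {s s' : SJ hF n} {ω c : F} (hω : ¬ Even n → ω = 0)
    (hs : s.1 = mZ q a ω c) (hs' : s'.1 = mZ q (ng a) (-ω ^ q) c) : trU (iota s) = iota s' := by
  apply GJ_ext
  intro x y
  rw [trU_val, iota_val, iota_val, hs, hs']
  unfold mZ
  by_cases hn : Even n
  · rw [tv_tv_tv_apply (pos_rev_ne_mid hn a).symm (pos_ne_mid hn a) (pos_ne_self_rev a),
      tv_tv_tv_apply (pos_rev_ne_mid hn _).symm (pos_ne_mid hn _) (pos_ne_self_rev _)]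
    rw [neg_pow_q hF, pow_q_pow_q hF, _root_.neg_neg]
    simp only [pos_ng, Fin.rev_rev]
    have e1 : (if y = x then (1 : F) else 0) = if x = y then 1 else 0 := by simp only [eq_comm]
    have e2 : (if y = mi n ∧ x = (pos n a).rev then ω else 0) = if x = (pos n a).rev ∧ y = mi n then ω else 0 := by
      simp only [and_comm]
    have e3 : (if y = pos n a ∧ x = mi n then -ω ^ q else 0) = if x = mi n ∧ y = pos n a then -ω ^ q else 0 := by
      simp only [and_comm]
    have e4 : (if y = pos n a ∧ x = (pos n a).rev then c else 0) = if x = (pos n a).rev ∧ y = pos n a then c else 0 := by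
      simp only [and_comm]
    rw [e1, e2, e3, e4]
    ring
  · have hq : q ≠ 0 := (q_pos hF).ne'
    rw [hω hn, zero_pow hq, neg_zero, zero_pow hq, neg_zero, tv_zero, tv_zero, tv_zero, tv_zero]
    simp only [one_mul]
    rw [tv_apply (pos_ne_self_rev a), tv_apply (pos_ne_self_rev _)]
    simp only [pos_ng, Fin.rev_rev]
    congr 1
    · simp only [eq_comm]
    · simp only [and_comm]

variable (U : UB hF n)

/-- transposition exchanges opposite root groups -/
theorem trU_root {x : Fin ((n + 1) / 2) → ℤ} (hx : IsRoot (UB.cs n) (isCartan ((n + 1) / 2)) x) {u : GJ hF n}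
    (hu : u ∈ XG U x) : trU u ∈ XG U (-x) := by
  obtain ⟨s, hs, rfl⟩ := (mem_XG U).1 hu
  obtain ⟨a, b, hab, e⟩ := exists_of_isRoot (UB.cs n) hx
  rcases hab with hab | rfl
  · obtain ⟨w, hw⟩ := (U.mem_XS_of hab (rg_eq U.Fr (Or.inl hab) e)).1 hs
    have hba : (ng b).1 ≠ (ng a).1 := hab.symm
    obtain ⟨s', hs'⟩ := exists_mX U hba w
    rw [mX_tr hab hw hs']
    have e' : Cfsg.Agent.Nodes.TypeC.ee (-x) = wt (ng b) + wt (ng a) := by
      rw [ee_neg, e, wt_ng, wt_ng]; abel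
    exact ⟨s', (U.mem_XS_of hba (rg_eq U.Fr (Or.inl hba) e')).2 ⟨_, hs'⟩, rfl⟩
  · obtain ⟨ω, c, hc, hω, hw⟩ := (U.mem_XS_of' (rg_eq U.Fr (Or.inr rfl) e)).1 hs
    have hc' : c + c ^ q = -((-ω ^ q) * (-ω ^ q) ^ q) := by
      rw [hc, neg_pow_q hF, pow_q_pow_q hF]
      ring
    have hω' : ¬ Even n → -ω ^ q = 0 := fun h => by rw [hω h, zero_pow_q hF, neg_zero]
    obtain ⟨s', hs'⟩ := exists_mZ U (ng a) hc' hω'
    rw [mZ_tr hω hw hs']
    have e' : Cfsg.Agent.Nodes.TypeC.ee (-x) = wt (ng a) + wt (ng a) := by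
      rw [ee_neg, e, wt_ng]; abel
    exact ⟨s', (U.mem_XS_of' (rg_eq U.Fr (Or.inr rfl) e')).2 ⟨_, _, hc', hω', hs'⟩, rfl⟩

/-- **transposition is an anti-automorphism of the root group datum** -/
theorem antiU : H92.GG.Anti (UB.cs n) (isCartan ((n + 1) / 2)) (TG hF n) (XG U) (trU (hF := hF) (n := n)) where
  mul x y := Subtype.ext (trG_mul _ _)
  invo x := Subtype.ext (trG_trG _)
  root _ ha _ hx := trU_root U ha hx
  tor t ht := by
    apply GJ_ext
    intro x y
    rw [trU_val]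
    by_cases h : x = y
    · rw [h]
    · rw [ht y x (fun e => h e.symm), ht x y h]

/-! ### generation -/

theorem det_norm (g : GJ hF n) : g.1.1.det * (g.1.1.det) ^ q = 1 := by
  have h1 := congrArg Matrix.det (mem_GJ.1 g.2)
  rw [Matrix.det_mul, Matrix.det_mul, Matrix.det_transpose] at h1
  have h2 : (g.1.1.map (conj hF)).det = (g.1.1.det) ^ q :=
    (RingHom.map_det (conj hF).toRingHom g.1.1).symm
  have h3 : (Jm F n).det ≠ 0 := by
    intro h
    have h4 := congrArg Matrix.det (Jm_Jm (F := F) (n := n))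
    rw [Matrix.det_mul, h, mul_zero, Matrix.det_one] at h4
    exact zero_ne_one h4
  rw [h2] at h1
  apply mul_left_cancel₀ h3
  rw [mul_one]
  linear_combination h1

/-- Hilbert 90 -/
theorem exists_h90 {δ : F} (h : δ * δ ^ q = 1) (hF : Fintype.card F = q ^ 2) : ∃ e : F, e ≠ 0 ∧ e * (e ^ q)⁻¹ = δ := by
  have hδ : δ ≠ 0 := fun h0 => by rw [h0, zero_mul] at h; exact zero_ne_one h
  have h1 : ∃ z : F, z + δ * z ^ q ≠ 0 := by
    by_contra hcon
    push Not at hcon
    have h2 := hcon 1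
    rw [one_pow, mul_one] at h2
    have h3 : δ = -1 := by linear_combination h2
    obtain ⟨x, hx⟩ := exists_not_fixed hF
    have h4 := hcon x
    rw [h3] at h4
    exact hx (by linear_combination -h4)
  obtain ⟨z, hz⟩ := h1
  refine ⟨z + δ * z ^ q, hz, ?_⟩
  have h2 : δ * (z + δ * z ^ q) ^ q = z + δ * z ^ q := by
    rw [add_pow_q hF, mul_pow, pow_q_pow_q hF]
    linear_combination z * h
  rw [mul_inv_eq_iff_eq_mul₀ (pow_ne_zero _ hz), h2]

theorem exists_tdet {δ : F} (hδ : δ * δ ^ q = 1) : ∃ t : GJ hF n, t ∈ TG hF n ∧ t.1.1.det = δ := by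
  have hdet : ∀ {t : GJ hF n} (ht : t ∈ TG hF n), t.1.1.det = ∏ x, t.1.1 x x := by
    intro t ht
    have h1 : t.1.1 = diagonal fun x => t.1.1 x x := by
      ext x y
      by_cases h : x = y
      · rw [h, diagonal_apply_eq]
      · rw [diagonal_apply_ne _ h, ht x y h]
    rw [h1, det_diagonal]
    simp only [diagonal_apply_eq]
  by_cases hn : Even n
  · obtain ⟨t, ht, hd⟩ := exists_diag (hF := hF) (n := n) (fun x => if x = mi n then δ else 1) (by
      intro x
      by_cases hx : x = mi n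
      · rw [hx, mid_rev hn]
        simp only [if_true]
        exact hδ
      · have h2 : x.rev ≠ mi n := fun h => hx (by rw [← Fin.rev_rev x, h, mid_rev hn])
        rw [if_neg hx, if_neg h2, one_mul, one_pow])
    refine ⟨t, ht, ?_⟩
    rw [hdet ht, Finset.prod_congr rfl fun x _ => hd x, Finset.prod_ite_eq' Finset.univ (mi n) (fun _ => δ),
      if_pos (Finset.mem_univ _)]
  · obtain ⟨e, he, he'⟩ := exists_h90 hδ hF
    have h0 : (0 : Fin (n + 1)) ≠ (0 : Fin (n + 1)).rev := ne_rev_of_odd hn 0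
    obtain ⟨t, ht, hd⟩ := exists_diag (hF := hF) (n := n)
      (fun x => if x = 0 then e else if x = (0 : Fin (n + 1)).rev then (e ^ q)⁻¹ else 1) (by
      intro x
      by_cases hx : x = 0
      · rw [hx]
        simp only [if_true]
        rw [if_neg h0.symm, inv_pow, pow_q_pow_q hF, mul_inv_cancel₀ he]
      · by_cases hx' : x = (0 : Fin (n + 1)).rev
        · rw [hx', Fin.rev_rev]
          simp only [if_true]
          rw [if_neg h0.symm, inv_mul_cancel₀ (pow_ne_zero _ he)]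
        · have h1 : x.rev ≠ 0 := fun h => hx' (by rw [← h, Fin.rev_rev])
          have h2 : x.rev ≠ (0 : Fin (n + 1)).rev := fun h => hx (Fin.rev_injective h)
          rw [if_neg hx, if_neg hx', if_neg h1, if_neg h2, one_mul, one_pow])
    refine ⟨t, ht, ?_⟩
    rw [hdet ht, Finset.prod_congr rfl fun x _ => hd x, ← he']
    rw [← Finset.mul_prod_erase Finset.univ _ (Finset.mem_univ (0 : Fin (n + 1))), if_pos rfl,
      ← Finset.mul_prod_erase _ _ (Finset.mem_erase.2 ⟨h0.symm, Finset.mem_univ ((0 : Fin (n + 1)).rev)⟩),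
      if_neg h0.symm, if_pos rfl, Finset.prod_eq_one, mul_one]
    intro x hx
    rw [Finset.mem_erase, Finset.mem_erase] at hx
    rw [if_neg hx.2.1, if_neg hx.1]

theorem mem_range_iota {g : GJ hF n} (hg : g.1.1.det = 1) : ∃ s : SJ hF n, iota s = g :=
  ⟨⟨⟨g.1.1, hg⟩, g.2⟩, Subtype.ext (Units.ext rfl)⟩

/-- the product decomposition -/
theorem exists_TG_mul (g : GJ hF n) : ∃ t ∈ TG hF n, ∃ s : SJ hF n, g = t * iota s := by
  obtain ⟨t, ht, hd⟩ := exists_tdet (n := n) (det_norm g)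
  have h1 : (t⁻¹ * g).1.1.det = 1 := by
    have h2 : (t * (t⁻¹ * g)).1.1.det = g.1.1.det := by rw [mul_inv_cancel_left]
    rw [mul_val, Matrix.det_mul, hd] at h2
    have h3 : g.1.1.det ≠ 0 := fun h0 => by
      have := det_norm g
      rw [h0, zero_mul] at this
      exact zero_ne_one this
    exact mul_left_cancel₀ h3 (h2.trans (mul_one _).symm)
  obtain ⟨s, hs⟩ := mem_range_iota h1
  exact ⟨t, ht, s, by rw [hs, mul_inv_cancel_left]⟩

include U in
theorem range_iota_le (hn : 2 ≤ n) : (iota (hF := hF) (n := n)).range ≤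
    GG (UB.cs n) (isCartan ((n + 1) / 2)) (TG hF n) (XG U) := by
  rw [MonoidHom.range_eq_map, ← U.gen hn, Subgroup.map_iSup]
  refine iSup_le fun i => ?_
  rw [Subgroup.map_sup]
  refine sup_le ?_ ?_
  · exact le_trans (RGD.le_Sup (X := XG U) (isRoot_sr (UB.cs n) (isCartan ((n + 1) / 2)) i)) le_sup_right
  · exact le_trans (RGD.le_Sup (X := XG U) (isRoot_sr (UB.cs n) (isCartan ((n + 1) / 2)) i).neg) le_sup_right

/-- **generation** -/
theorem GGU_eq_top (hn : 2 ≤ n) : GG (UB.cs n) (isCartan ((n + 1) / 2)) (TG hF n) (XG U) = ⊤ := by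
  refine eq_top_iff.2 fun g _ => ?_
  obtain ⟨t, ht, s, rfl⟩ := exists_TG_mul g
  exact mul_mem ((le_sup_left : TG hF n ≤ _) ht) (range_iota_le U hn ⟨s, rfl⟩)

/-! ### the scalars -/

variable (hF n) in
/-- the scalar matrices -/
def ZG : Subgroup (GJ hF n) where
  carrier := {g | g ∈ TG hF n ∧ ∀ x y, g.1.1 x x = g.1.1 y y}
  one_mem' := ⟨one_mem _, fun x y => by
    change (1 : Matrix (Fin (n + 1)) (Fin (n + 1)) F) x x = (1 : Matrix (Fin (n + 1)) (Fin (n + 1)) F) y y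
    rw [Matrix.one_apply_eq, Matrix.one_apply_eq]⟩
  mul_mem' := by
    rintro a b ⟨ha, ha'⟩ ⟨hb, hb'⟩
    exact ⟨mul_mem ha hb, fun x y => by rw [TG_mul ha, TG_mul ha, ha' x y, hb' x y]⟩
  inv_mem' := by
    rintro a ⟨ha, ha'⟩
    exact ⟨inv_mem ha, fun x y => by rw [TG_inv ha, TG_inv ha, ha' x y]⟩

theorem mem_ZG' {g : GJ hF n} : g ∈ ZG hF n ↔ g ∈ TG hF n ∧ ∀ x y, g.1.1 x x = g.1.1 y y := Iff.rfl

theorem ZG_comm {z : GJ hF n} (hz : z ∈ ZG hF n) (g : GJ hF n) : z * g = g * z := by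
  apply GJ_ext
  intro x y
  rw [mul_val, mul_val, diag_mul_apply hz.1, mul_diag_apply hz.1, hz.2 x y, mul_comm]

instance ZG_normal : (ZG hF n).Normal := ⟨fun z hz g => by rw [← ZG_comm hz, mul_inv_cancel_right]; exact hz⟩

/-- elements of the torus with trivial simple roots are scalar -/
theorem mem_ZG_of {t : GJ hF n} (ht : t ∈ TG hF n) (h : ∀ i : Fin ((n + 1) / 2), t.1.1 (ix i) (ix i) = t.1.1 (iy i) (iy i)) :
    t ∈ ZG hF n := by
  have h1 : ∀ k : ℕ, ∀ hk : k < n + 1, k ≤ (n + 1) / 2 → t.1.1 ⟨k, hk⟩ ⟨k, hk⟩ = t.1.1 0 0 := by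
    intro k
    induction k with
    | zero => intro _ _; rfl
    | succ k ih =>
      intro hk hk'
      have h2 := ih (by omega) (by omega)
      have h3 := h ⟨k, by omega⟩
      rw [← h2]
      exact h3.symm
  -- the value is of norm one
  have h2 : t.1.1 0 0 * (t.1.1 0 0) ^ q = 1 := by
    rcases Nat.mod_two_eq_zero_or_one n with h | h
    · have hn : Even n := Nat.even_iff.2 h
      have h3 := TG_unit ht (mi n)
      rw [mid_rev hn] at h3
      have h4 := h1 (n / 2) (by omega) (by omega)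
      have h5 : t.1.1 (mi n) (mi n) = t.1.1 0 0 := h4
      rwa [h5] at h3
    · have hm : 0 < (n + 1) / 2 := by omega
      have h3 := TG_unit ht ⟨(n + 1) / 2 - 1, by omega⟩
      have h4 : (⟨(n + 1) / 2 - 1, by omega⟩ : Fin (n + 1)).rev = ⟨(n + 1) / 2, by omega⟩ := by
        apply Fin.ext
        rw [Fin.val_rev]
        change n + 1 - ((n + 1) / 2 - 1 + 1) = (n + 1) / 2
        omega
      rw [h4, h1 _ _ (by omega), h1 _ _ le_rfl] at h3
      exact h3
  have h3 : ∀ x : Fin (n + 1), t.1.1 x x = t.1.1 0 0 := by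
    intro x
    by_cases hx : (x : ℕ) ≤ (n + 1) / 2
    · exact h1 x x.2 hx
    · have h4 := TG_unit ht x
      have h5 : t.1.1 x.rev x.rev = t.1.1 0 0 := by
        refine h1 x.rev x.rev.2 ?_
        rw [Fin.val_rev]
        omega
      rw [h5] at h4
      rw [eq_inv_of_mul_eq_one_left h4, ← eq_inv_of_mul_eq_one_left h2]
  exact ⟨ht, fun x y => by rw [h3 x, h3 y]⟩

/-- **the kernel** -/
theorem kerU : Ker (adjU U) (QuotientGroup.mk' (ZG hF n)) where
  surj := QuotientGroup.mk'_surjective _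
  mem z hz := ((QuotientGroup.eq_one_iff z).1 hz).1
  ctr z hz g := ZG_comm ((QuotientGroup.eq_one_iff z).1 hz) g
  of t ht := (QuotientGroup.eq_one_iff _).2 (mem_ZG_of t.2 fun i => aU_eq_one (ht i))

end

end Cfsg.Agent.H356.AQ
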