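import Cfsg.Agent.H356.AQ.Quot
import Cfsg.Agent.H356.TU.Coord

/-!
# The unitary group `GJ` of the antidiagonal form, its torus and its root group datum (S4884, helper356)
-/

set_option autoImplicit false
set_option linter.unusedSectionVars false
set_option linter.unusedSimpArgs false

namespace Cfsg.Agent.H356.AQ

open Matrix Cfsg Cfsg.Agent.H356.TA Cfsg.Agent.H356.TU Cfsg.Agent.LieClassical.HermBasic
  Cfsg.Agent.LieClassical.HermSiegel
open Cfsg.Agent.TitsThree Cfsg.Agent.TitsThree.Siegel Cfsg.Agent.TitsThree.SiegelGen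
  Cfsg.Agent.TitsThree.WittFrame Cfsg.Agent.TitsThree.WBridge Cfsg.Agent.TitsThree.WittWeyl
  Cfsg.Agent.TitsThree.FrameCN Cfsg.Agent.TitsThree.KSideU Cfsg.Agent.TitsThree.KSideUDesc
open Cfsg.Agent.TitsThree.KSideA Cfsg.Agent.Nodes.RGDTypeA
open CoxeterSystem Cfsg.Agent.ChevalleyStructure.CoxeterGeom Cfsg.Agent.Tits.Roots
  Cfsg.Agent.Nodes.Comb Cfsg.Agent.Nodes.Reps Cfsg.Agent.Nodes.BNOf Cfsg.Agent.Nodes.RGDLib
open Cfsg.Agent.Nodes.RGDAllP Cfsg.Agent.Nodes.WittU Cfsg.Agent.Nodes.OppDec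
open Cfsg.Agent.Nodes.TypeC (isCartan nx sg sg_sg exists_of_isRoot)
open Cfsg.Agent.Nodes.WittRoot (Amb Mono rg rg_eq)
open Cfsg.Agent.Nodes.WittRGD (Tor nn nn_mem nn_mem_sup mono_nn)

section

variable {F : Type*} [Field F] [Fintype F] {q : ℕ} (hF : Fintype.card F = q ^ 2) (n : ℕ)

/-- **the full unitary group of the antidiagonal form** -/
def GJ : Subgroup (GL (Fin (n + 1)) F) where
  carrier := {M | M.1ᵀ * Jm F n * M.1.map (conj hF) = Jm F n}
  one_mem' := by
    show (1 : Matrix _ _ F)ᵀ * Jm F n * (1 : Matrix _ _ F).map (conj hF) = Jm F n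
    rw [map_one_conj, Matrix.transpose_one, Matrix.one_mul, Matrix.mul_one]
  mul_mem' := by
    intro M N hM hN
    have hM' : M.1ᵀ * Jm F n * M.1.map (conj hF) = Jm F n := hM
    have hN' : N.1ᵀ * Jm F n * N.1.map (conj hF) = Jm F n := hN
    show (M.1 * N.1)ᵀ * Jm F n * (M.1 * N.1).map (conj hF) = Jm F n
    rw [map_mul_conj, Matrix.transpose_mul]
    calc N.1ᵀ * M.1ᵀ * Jm F n * (M.1.map (conj hF) * N.1.map (conj hF)) =
        N.1ᵀ * (M.1ᵀ * Jm F n * M.1.map (conj hF)) * N.1.map (conj hF) := by simp only [Matrix.mul_assoc]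
      _ = Jm F n := by rw [hM', hN']
  inv_mem' := by
    intro M hM
    have hM' : M.1ᵀ * Jm F n * M.1.map (conj hF) = Jm F n := hM
    show (M⁻¹).1ᵀ * Jm F n * (M⁻¹).1.map (conj hF) = Jm F n
    have h1 : M.1 * (M⁻¹).1 = 1 := by rw [← Units.val_mul, mul_inv_cancel, Units.val_one]
    have h2 : (M⁻¹).1ᵀ * M.1ᵀ = 1 := by rw [← Matrix.transpose_mul, h1, Matrix.transpose_one]
    have h3 : M.1.map (conj hF) * (M⁻¹).1.map (conj hF) = 1 := by rw [← map_mul_conj, h1, map_one_conj]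
    calc (M⁻¹).1ᵀ * Jm F n * (M⁻¹).1.map (conj hF) =
        (M⁻¹).1ᵀ * (M.1ᵀ * Jm F n * M.1.map (conj hF)) * (M⁻¹).1.map (conj hF) := by rw [hM']
      _ = ((M⁻¹).1ᵀ * M.1ᵀ) * Jm F n * (M.1.map (conj hF) * (M⁻¹).1.map (conj hF)) := by simp only [Matrix.mul_assoc]
      _ = Jm F n := by rw [h2, h3, Matrix.one_mul, Matrix.mul_one]

variable {hF n}

theorem mem_GJ {M : GL (Fin (n + 1)) F} : M ∈ GJ hF n ↔ M.1ᵀ * Jm F n * M.1.map (conj hF) = Jm F n := Iff.rfl

theorem mem_GJ' {M : GL (Fin (n + 1)) F} : M ∈ GJ hF n ↔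
    ∀ x y, ∑ z, M.1 z x * (M.1 z.rev y) ^ q = if y = x.rev then 1 else 0 := by
  rw [mem_GJ]
  have key : ∀ x y, (M.1ᵀ * Jm F n * M.1.map (conj hF)) x y = ∑ z, M.1 z x * (M.1 z.rev y) ^ q := by
    intro x y
    rw [Matrix.mul_apply, ← Equiv.sum_comp Fin.revPerm]
    refine Finset.sum_congr rfl fun z _ => ?_
    rw [Fin.revPerm_apply, mul_Jm, Fin.rev_rev]
    rfl
  constructor
  · intro h x y
    rw [← key, h]
    rfl
  · intro h
    ext x y
    rw [key, h]
    rfl

/-- the inclusion of the special unitary group -/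
def iota : SJ hF n →* GJ hF n where
  toFun s := ⟨SpecialLinearGroup.toGL s.1, s.2⟩
  map_one' := by
    apply Subtype.ext
    show SpecialLinearGroup.toGL 1 = 1
    rw [map_one]
  map_mul' a b := by
    apply Subtype.ext
    show SpecialLinearGroup.toGL (a.1 * b.1) = SpecialLinearGroup.toGL a.1 * SpecialLinearGroup.toGL b.1
    rw [map_mul]

theorem iota_val (s : SJ hF n) : (iota s).1.1 = s.1.1 := rfl

theorem iota_inj : Function.Injective (iota (hF := hF) (n := n)) := by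
  intro a b h
  apply Subtype.ext
  apply Subtype.ext
  rw [← iota_val, ← iota_val, h]

theorem GJ_ext {g g' : GJ hF n} (h : ∀ x y, g.1.1 x y = g'.1.1 x y) : g = g' := by
  apply Subtype.ext
  apply Units.ext
  ext x y
  exact h x y

theorem mul_val (g g' : GJ hF n) : (g * g').1.1 = g.1.1 * g'.1.1 := rfl

theorem mul_inv_val (g : GJ hF n) : g.1.1 * (g⁻¹).1.1 = 1 := by
  rw [← mul_val, mul_inv_cancel]
  rfl

theorem inv_mul_val (g : GJ hF n) : (g⁻¹).1.1 * g.1.1 = 1 := by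
  rw [← mul_val, inv_mul_cancel]
  rfl

/-! ### the torus -/

theorem diag_mul_apply {g : GJ hF n} (hg : ∀ x y, x ≠ y → g.1.1 x y = 0) (N : Matrix (Fin (n + 1)) (Fin (n + 1)) F)
    (x y : Fin (n + 1)) : (g.1.1 * N) x y = g.1.1 x x * N x y := by
  rw [Matrix.mul_apply, Finset.sum_eq_single x]
  · intro z _ hz
    rw [hg x z (Ne.symm hz), zero_mul]
  · intro h; exact absurd (Finset.mem_univ _) h

theorem mul_diag_apply {g : GJ hF n} (hg : ∀ x y, x ≠ y → g.1.1 x y = 0) (N : Matrix (Fin (n + 1)) (Fin (n + 1)) F)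
    (x y : Fin (n + 1)) : (N * g.1.1) x y = N x y * g.1.1 y y := by
  rw [Matrix.mul_apply, Finset.sum_eq_single y]
  · intro z _ hz
    rw [hg z y hz, mul_zero]
  · intro h; exact absurd (Finset.mem_univ _) h

theorem diag_inv {g : GJ hF n} (hg : ∀ x y, x ≠ y → g.1.1 x y = 0) (x y : Fin (n + 1)) :
    g.1.1 x x * (g⁻¹).1.1 x y = if x = y then 1 else 0 := by
  rw [← diag_mul_apply hg, mul_inv_val, Matrix.one_apply]

theorem diag_ne {g : GJ hF n} (hg : ∀ x y, x ≠ y → g.1.1 x y = 0) (x : Fin (n + 1)) : g.1.1 x x ≠ 0 := by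
  intro h
  have h1 := diag_inv hg x x
  rw [h, zero_mul, if_pos rfl] at h1
  exact zero_ne_one h1

variable (hF n) in
/-- the diagonal torus -/
def TG : Subgroup (GJ hF n) where
  carrier := {g | ∀ x y, x ≠ y → g.1.1 x y = 0}
  one_mem' := fun x y h => Matrix.one_apply_ne h
  mul_mem' := by
    intro a b ha hb x y hxy
    show (a.1.1 * b.1.1) x y = 0
    rw [diag_mul_apply ha, hb x y hxy, mul_zero]
  inv_mem' := by
    intro a ha x y hxy
    have h1 := diag_inv ha x y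
    rw [if_neg hxy] at h1
    exact (mul_eq_zero.1 h1).resolve_left (diag_ne ha x)

theorem mem_TG {g : GJ hF n} : g ∈ TG hF n ↔ ∀ x y, x ≠ y → g.1.1 x y = 0 := Iff.rfl

theorem TG_inv {g : GJ hF n} (hg : g ∈ TG hF n) (x : Fin (n + 1)) : (g⁻¹).1.1 x x = (g.1.1 x x)⁻¹ := by
  have h1 := diag_inv hg x x
  rw [if_pos rfl] at h1
  exact eq_inv_of_mul_eq_one_right h1

theorem TG_mul {g g' : GJ hF n} (hg : g ∈ TG hF n) (x : Fin (n + 1)) : (g * g').1.1 x x = g.1.1 x x * g'.1.1 x x :=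
  diag_mul_apply hg _ x x

theorem TG_unit {g : GJ hF n} (hg : g ∈ TG hF n) (x : Fin (n + 1)) : g.1.1 x x * (g.1.1 x.rev x.rev) ^ q = 1 := by
  have h1 := mem_GJ'.1 g.2 x x.rev
  rw [if_pos rfl, Finset.sum_eq_single x] at h1
  · exact h1
  · intro z _ hz
    rw [hg z x hz, zero_mul]
  · intro h; exact absurd (Finset.mem_univ _) h

/-- conjugation by a diagonal element -/
theorem TG_conj {t : GJ hF n} (ht : t ∈ TG hF n) (u : GJ hF n) (x y : Fin (n + 1)) :
    (t * u * t⁻¹).1.1 x y = t.1.1 x x * u.1.1 x y * (t.1.1 y y)⁻¹ := by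
  show ((t * u).1.1 * (t⁻¹).1.1) x y = _
  rw [mul_diag_apply (inv_mem ht), mul_val, diag_mul_apply ht, TG_inv ht]

theorem TG_comm : ∀ s ∈ TG hF n, ∀ t ∈ TG hF n, Commute s t := by
  intro s hs t ht
  show s * t = t * s
  apply GJ_ext
  intro x y
  rw [mul_val, mul_val, diag_mul_apply hs, diag_mul_apply ht]
  by_cases h : x = y
  · rw [h, mul_comm]
  · rw [hs x y h, ht x y h, mul_zero, mul_zero]

theorem TG_coprime {p : ℕ} [hp : Fact p.Prime] [CharP F p] : (Nat.card (TG hF n)).Coprime p := by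
  rw [Nat.coprime_comm, hp.out.coprime_iff_not_dvd]
  intro h
  obtain ⟨t, ht⟩ := exists_prime_orderOf_dvd_card' (G := ↥(TG hF n)) p h
  have h1 : t.1 ^ p = 1 := by
    have := pow_orderOf_eq_one t
    rw [ht] at this
    exact congrArg Subtype.val this
  have h2 : ∀ (k : ℕ) (x : Fin (n + 1)), (t.1 ^ k).1.1 x x = (t.1.1.1 x x) ^ k := by
    intro k x
    induction k with
    | zero =>
      rw [pow_zero, pow_zero]
      exact Matrix.one_apply_eq x
    | succ k ih =>
      rw [pow_succ, TG_mul (pow_mem t.2 k), ih, pow_succ]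
  have h3 : ∀ x, t.1.1.1 x x = 1 := by
    intro x
    have h4 := h2 p x
    rw [h1] at h4
    have h5 : (t.1.1.1 x x) ^ p = 1 ^ p := by
      rw [one_pow, ← h4]
      exact Matrix.one_apply_eq x
    exact frobenius_inj F p h5
  have h4 : t = 1 := by
    apply Subtype.ext
    apply GJ_ext
    intro x y
    by_cases hxy : x = y
    · rw [hxy, h3]
      exact (Matrix.one_apply_eq y).symm
    · rw [t.2 x y hxy]
      exact (Matrix.one_apply_ne hxy).symm
  rw [h4, orderOf_one] at ht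
  exact hp.out.one_lt.ne ht

/-! ### the Weyl elements normalise the torus -/

/-- monomial elements normalise the torus -/
theorem normalize_of_mono {g : GJ hF n} {σ : Fin (n + 1) → Fin (n + 1)} (hσ : ∀ x, σ (σ x) = x)
    (hg : ∀ x y, x ≠ σ y → g.1.1 x y = 0) : g ∈ Subgroup.normalizer (TG hF n : Set (GJ hF n)) := by
  have key : ∀ {g g' : GJ hF n}, (∀ x y, x ≠ σ y → g.1.1 x y = 0) → (∀ x y, x ≠ σ y → g'.1.1 x y = 0) →
      ∀ t ∈ TG hF n, g * t * g' ∈ TG hF n := by
    intro g g' hg hg' t ht x y hxy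
    show ((g * t).1.1 * g'.1.1) x y = 0
    rw [Matrix.mul_apply]
    refine Finset.sum_eq_zero fun z _ => ?_
    rw [mul_val, mul_diag_apply ht]
    by_cases h1 : x = σ z
    · rw [hg' z y, mul_zero]
      intro h2
      apply hxy
      rw [h1, h2, hσ]
    · rw [hg x z h1, zero_mul, zero_mul]
  have hinv : ∀ x y, x ≠ σ y → (g⁻¹).1.1 x y = 0 := by
    intro x y hxy
    have h1 := congrFun (congrFun (mul_inv_val g) (σ x)) y
    rw [Matrix.mul_apply, Finset.sum_eq_single x, Matrix.one_apply_ne] at h1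
    · have h2 := congrFun (congrFun (mul_inv_val g) (σ x)) (σ x)
      rw [Matrix.mul_apply, Finset.sum_eq_single x, Matrix.one_apply_eq] at h2
      · refine (mul_eq_zero.1 h1).resolve_left fun h3 => ?_
        rw [h3, zero_mul] at h2
        exact zero_ne_one h2
      · intro z _ hz
        rw [hg (σ x) z, zero_mul]
        intro h3
        apply hz
        rw [← hσ z, ← h3, hσ]
      · intro h; exact absurd (Finset.mem_univ _) h
    · intro h3
      apply hxy
      rw [← h3, hσ]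
    · intro z _ hz
      rw [hg (σ x) z, zero_mul]
      intro h3
      apply hz
      rw [← hσ z, ← h3, hσ]
    · intro h; exact absurd (Finset.mem_univ _) h
  rw [Subgroup.mem_normalizer_iff]
  intro t
  constructor
  · exact key hg hinv t
  · intro ht
    have h1 := key hinv hg _ ht
    have e : g⁻¹ * (g * t * g⁻¹) * g = t := by group
    rwa [e] at h1

end

section

variable {F : Type*} [Field F] [Fintype F] {q : ℕ} {hF : Fintype.card F = q ^ 2} {n : ℕ} (U : UB hF n)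

open Classical in
/-- the permutation of the indices -/
noncomputable def sgp (i : Fin ((n + 1) / 2)) (x : Fin (n + 1)) : Fin (n + 1) :=
  if h : ∃ a, x = pos n a then pos n (sg i h.choose) else x

theorem sgp_pos (i : Fin ((n + 1) / 2)) (a : Fin ((n + 1) / 2) × Bool) : sgp i (pos n a) = pos n (sg i a) := by
  have h : ∃ b, pos n a = pos n b := ⟨a, rfl⟩
  unfold sgp
  rw [dif_pos h, ← pos_inj.1 h.choose_spec]

theorem sgp_mid (i : Fin ((n + 1) / 2)) {x : Fin (n + 1)} (hx : x = x.rev) : sgp i x = x := by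
  unfold sgp
  rw [dif_neg]
  rintro ⟨a, ha⟩
  rw [ha] at hx
  exact pos_ne_self_rev a hx

theorem sgp_sgp (i : Fin ((n + 1) / 2)) (x : Fin (n + 1)) : sgp i (sgp i x) = x := by
  rcases pos_or x with ⟨a, rfl⟩ | h
  · rw [sgp_pos, sgp_pos, sg_sg]
  · rw [sgp_mid i h, sgp_mid i h]

/-- the Weyl elements are monomial -/
theorem nS_col (i : Fin ((n + 1) / 2)) (x y : Fin (n + 1)) (h : x ≠ sgp i y) : (U.nS i).1.1 x y = 0 := by
  rcases pos_or y with ⟨a, rfl⟩ | hy
  · rw [sgp_pos] at h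
    exact mono_col (mono_nS i) a h
  · rw [sgp_mid i hy] at h
    have hV : U.bv y ∈ (U.Fr).V0 := U.mid y hy
    have h1 := U.amb.map_V0 (U.toV_mem (U.nS i)) (mono_nS (U := U) i) (sg_sg i) hV
    rw [U.entry, U.herm_V0 h1, if_neg]
    rw [← eq_mid hy]
    exact h

/-- the root groups -/
noncomputable def XG (x : Fin ((n + 1) / 2) → ℤ) : Subgroup (GJ hF n) := (U.XS x).map iota

/-- the Weyl elements -/
noncomputable def nG (i : Fin ((n + 1) / 2)) : GJ hF n := iota (U.nS i)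

theorem mX_conj {t : GJ hF n} (ht : t ∈ TG hF n) {a b : Fin ((n + 1) / 2) × Bool} (hab : a.1 ≠ b.1) {s s' : SJ hF n}
    {w : F} (hs : s.1 = mX q a b w)
    (hs' : s'.1 = mX q a b (t.1.1 (pos n a) (pos n a) * w * (t.1.1 (pos n b).rev (pos n b).rev)⁻¹)) :
    t * iota s * t⁻¹ = iota s' := by
  apply GJ_ext
  intro x y
  rw [TG_conj ht, iota_val, iota_val, hs, hs']
  unfold mX
  rw [tv_tv_apply (pos_ne_rev a b hab) (pos_ne_rev b a hab.symm) (fun h => pos_ne_self_rev b h.symm),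
    tv_tv_apply (pos_ne_rev a b hab) (pos_ne_rev b a hab.symm) (fun h => pos_ne_self_rev b h.symm)]
  have hne := diag_ne ht
  have hu := TG_unit ht
  have e1 : t.1.1 (pos n b) (pos n b) * -w ^ q * (t.1.1 (pos n a).rev (pos n a).rev)⁻¹ =
      -(t.1.1 (pos n a) (pos n a) * w * (t.1.1 (pos n b).rev (pos n b).rev)⁻¹) ^ q := by
    have h1 := hu (pos n b)
    have h2 := hu (pos n a).rev
    rw [Fin.rev_rev] at h2
    rw [mul_pow, mul_pow, inv_pow]
    have h3 : ((t.1.1 (pos n b).rev (pos n b).rev) ^ q)⁻¹ = t.1.1 (pos n b) (pos n b) :=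
      (eq_inv_of_mul_eq_one_left h1).symm
    have h4 : (t.1.1 (pos n a).rev (pos n a).rev)⁻¹ = (t.1.1 (pos n a) (pos n a)) ^ q :=
      (eq_inv_of_mul_eq_one_right h2).symm
    rw [h3, h4]
    ring
  by_cases hxy : x = y
  · subst hxy
    rw [if_pos rfl]
    by_cases h1 : x = pos n a ∧ x = (pos n b).rev
    · exact absurd (h1.1.symm.trans h1.2) (pos_ne_rev a b hab)
    · by_cases h2 : x = pos n b ∧ x = (pos n a).rev
      · exact absurd (h2.1.symm.trans h2.2) (pos_ne_rev b a hab.symm)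
      · rw [if_neg h1, if_neg h2, if_neg h1, if_neg h2]
        have := hne x
        field_simp
  · rw [if_neg hxy]
    by_cases h1 : x = pos n a ∧ y = (pos n b).rev
    · by_cases h2 : x = pos n b ∧ y = (pos n a).rev
      · exfalso
        apply hab
        rw [h1.1, pos_inj] at h2
        rw [h2.1]
      · rw [if_pos h1, if_neg h2, if_pos h1, if_neg h2, h1.1, h1.2]
        ring
    · by_cases h2 : x = pos n b ∧ y = (pos n a).rev
      · rw [if_neg h1, if_pos h2, if_neg h1, if_pos h2, h2.1, h2.2]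
        linear_combination e1
      · rw [if_neg h1, if_neg h2, if_neg h1, if_neg h2]
        ring

theorem mZ_conj {t : GJ hF n} (ht : t ∈ TG hF n) (a : Fin ((n + 1) / 2) × Bool) {s s' : SJ hF n}
    {ω c : F} (hω : ¬ Even n → ω = 0) (hs : s.1 = mZ q a ω c)
    (hs' : s'.1 = mZ q a (t.1.1 (mi n) (mi n) * ω * (t.1.1 (pos n a).rev (pos n a).rev)⁻¹)
      (t.1.1 (pos n a) (pos n a) * c * (t.1.1 (pos n a).rev (pos n a).rev)⁻¹)) :
    t * iota s * t⁻¹ = iota s' := by
  have hne := diag_ne ht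
  have hu := TG_unit ht
  apply GJ_ext
  intro x y
  rw [TG_conj ht, iota_val, iota_val, hs, hs']
  unfold mZ
  by_cases hn : Even n
  · rw [tv_tv_tv_apply (pos_rev_ne_mid hn a).symm (pos_ne_mid hn a) (pos_ne_self_rev a),
      tv_tv_tv_apply (pos_rev_ne_mid hn a).symm (pos_ne_mid hn a) (pos_ne_self_rev a)]
    have e1 : t.1.1 (pos n a) (pos n a) * -ω ^ q * (t.1.1 (mi n) (mi n))⁻¹ =
        -(t.1.1 (mi n) (mi n) * ω * (t.1.1 (pos n a).rev (pos n a).rev)⁻¹) ^ q := by
      have h1 := hu (pos n a)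
      have h2 := hu (mi n)
      rw [mid_rev hn] at h2
      rw [mul_pow, mul_pow, inv_pow]
      have h3 : ((t.1.1 (pos n a).rev (pos n a).rev) ^ q)⁻¹ = t.1.1 (pos n a) (pos n a) :=
        (eq_inv_of_mul_eq_one_left h1).symm
      have h4 : (t.1.1 (mi n) (mi n))⁻¹ = (t.1.1 (mi n) (mi n)) ^ q := (eq_inv_of_mul_eq_one_right h2).symm
      rw [h3, h4]
      ring
    by_cases hxy : x = y
    · subst hxy
      rw [if_pos rfl]
      have k1 : ¬ (x = mi n ∧ x = (pos n a).rev) := fun h => pos_rev_ne_mid hn a (h.2.symm.trans h.1)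
      have k2 : ¬ (x = pos n a ∧ x = mi n) := fun h => pos_ne_mid hn a (h.1.symm.trans h.2)
      have k3 : ¬ (x = pos n a ∧ x = (pos n a).rev) := fun h => pos_ne_self_rev a (h.1.symm.trans h.2)
      rw [if_neg k1, if_neg k2, if_neg k3, if_neg k1, if_neg k2, if_neg k3]
      have := hne x
      field_simp
    · rw [if_neg hxy]
      by_cases h1 : x = mi n ∧ y = (pos n a).rev
      · have k2 : ¬ (x = pos n a ∧ y = mi n) := fun h => pos_ne_mid hn a (h.1.symm.trans h1.1)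
        have k3 : ¬ (x = pos n a ∧ y = (pos n a).rev) := fun h => pos_ne_mid hn a (h.1.symm.trans h1.1)
        rw [if_pos h1, if_neg k2, if_neg k3, if_pos h1, if_neg k2, if_neg k3, h1.1, h1.2]
        ring
      · by_cases h2 : x = pos n a ∧ y = mi n
        · have k3 : ¬ (x = pos n a ∧ y = (pos n a).rev) := fun h => pos_rev_ne_mid hn a (h.2.symm.trans h2.2)
          rw [if_neg h1, if_pos h2, if_neg k3, if_neg h1, if_pos h2, if_neg k3, h2.1, h2.2]
          linear_combination e1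
        · by_cases h3 : x = pos n a ∧ y = (pos n a).rev
          · rw [if_neg h1, if_neg h2, if_pos h3, if_neg h1, if_neg h2, if_pos h3, h3.1, h3.2]
            ring
          · rw [if_neg h1, if_neg h2, if_neg h3, if_neg h1, if_neg h2, if_neg h3]
            ring
  · have hq : q ≠ 0 := (q_pos hF).ne'
    rw [hω hn, mul_zero, zero_mul, tv_zero, zero_pow hq, neg_zero, tv_zero, one_mul, one_mul, one_mul,
      tv_apply (pos_ne_self_rev a), tv_apply (pos_ne_self_rev a)]
    by_cases hxy : x = y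
    · subst hxy
      have k3 : ¬ (x = pos n a ∧ x = (pos n a).rev) := fun h => pos_ne_self_rev a (h.1.symm.trans h.2)
      rw [if_pos rfl, if_neg k3, if_neg k3]
      have := hne x
      field_simp
    · rw [if_neg hxy]
      by_cases h3 : x = pos n a ∧ y = (pos n a).rev
      · rw [if_pos h3, if_pos h3, h3.1, h3.2]
        ring
      · rw [if_neg h3, if_neg h3]
        ring

include U in
theorem exists_mX {a b : Fin ((n + 1) / 2) × Bool} (hab : a.1 ≠ b.1) (t : F) : ∃ s : SJ hF n, s.1 = mX q a b t := by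
  obtain ⟨s, hs⟩ := U.mem_IU.1 (X_mem hF U.W a b t)
  exact ⟨s, (U.toV_X_iff hab t s).1 hs⟩

include U in
theorem exists_mZ (a : Fin ((n + 1) / 2) × Bool) {ω c : F} (hc : c + c ^ q = -(ω * ω ^ q)) (hω : ¬ Even n → ω = 0) :
    ∃ s : SJ hF n, s.1 = mZ q a ω c := by
  obtain ⟨p, hp1, hp2⟩ := U.exists_adm_of hc hω
  obtain ⟨s, hs⟩ := U.mem_IU.1 (Z_mem hF U.W a p)
  have hs' := (U.toV_Z_iff a p s).1 hs
  rw [hp1, hp2] at hs'
  exact ⟨s, hs'⟩

/-- the norm condition for the conjugate -/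
theorem adm_conj {t : GJ hF n} (ht : t ∈ TG hF n) (a : Fin ((n + 1) / 2) × Bool) {ω c : F}
    (hc : c + c ^ q = -(ω * ω ^ q)) (hω : ¬ Even n → ω = 0) :
    t.1.1 (pos n a) (pos n a) * c * (t.1.1 (pos n a).rev (pos n a).rev)⁻¹ +
      (t.1.1 (pos n a) (pos n a) * c * (t.1.1 (pos n a).rev (pos n a).rev)⁻¹) ^ q =
      -((t.1.1 (mi n) (mi n) * ω * (t.1.1 (pos n a).rev (pos n a).rev)⁻¹) *
        (t.1.1 (mi n) (mi n) * ω * (t.1.1 (pos n a).rev (pos n a).rev)⁻¹) ^ q) := by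
  have hu := TG_unit ht
  have h1 := hu (pos n a)
  have h2 := hu (pos n a).rev
  rw [Fin.rev_rev] at h2
  have h3 : ((t.1.1 (pos n a).rev (pos n a).rev) ^ q)⁻¹ = t.1.1 (pos n a) (pos n a) :=
    (eq_inv_of_mul_eq_one_left h1).symm
  have h4 : (t.1.1 (pos n a).rev (pos n a).rev)⁻¹ = (t.1.1 (pos n a) (pos n a)) ^ q :=
    (eq_inv_of_mul_eq_one_right h2).symm
  rw [mul_pow, mul_pow, mul_pow, mul_pow, inv_pow, h3, h4]
  by_cases hn : Even n
  · have h5 := hu (mi n)
    rw [mid_rev hn] at h5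
    linear_combination (t.1.1 (pos n a) (pos n a) * (t.1.1 (pos n a) (pos n a)) ^ q) * hc +
      (ω * ω ^ q * (t.1.1 (pos n a) (pos n a) * (t.1.1 (pos n a) (pos n a)) ^ q)) * h5
  · rw [hω hn] at hc ⊢
    linear_combination (t.1.1 (pos n a) (pos n a) * (t.1.1 (pos n a) (pos n a)) ^ q) * hc

/-- **the torus normalises the root groups** -/
theorem XG_conj {x : Fin ((n + 1) / 2) → ℤ} (hx : IsRoot (UB.cs n) (isCartan ((n + 1) / 2)) x) {t : GJ hF n}
    (ht : t ∈ TG hF n) {u : GJ hF n} (hu : u ∈ XG U x) : t * u * t⁻¹ ∈ XG U x := by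
  obtain ⟨s, hs, rfl⟩ := hu
  obtain ⟨a, b, hab, e⟩ := exists_of_isRoot (UB.cs n) hx
  rcases hab with hab | rfl
  · obtain ⟨w, hw⟩ := (U.mem_XS_of hab (rg_eq U.Fr (Or.inl hab) e)).1 hs
    obtain ⟨s', hs'⟩ := exists_mX U hab (t.1.1 (pos n a) (pos n a) * w * (t.1.1 (pos n b).rev (pos n b).rev)⁻¹)
    rw [mX_conj ht hab hw hs']
    exact ⟨s', (U.mem_XS_of hab (rg_eq U.Fr (Or.inl hab) e)).2 ⟨_, hs'⟩, rfl⟩
  · obtain ⟨ω, c, hc, hω, hw⟩ := (U.mem_XS_of' (rg_eq U.Fr (Or.inr rfl) e)).1 hs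
    have hc' := adm_conj ht a hc hω
    have hω' : ¬ Even n → t.1.1 (mi n) (mi n) * ω * (t.1.1 (pos n a).rev (pos n a).rev)⁻¹ = 0 := fun h => by
      rw [hω h]; ring
    obtain ⟨s', hs'⟩ := exists_mZ U a hc' hω'
    rw [mZ_conj ht a hω hw hs']
    exact ⟨s', (U.mem_XS_of' (rg_eq U.Fr (Or.inr rfl) e)).2 ⟨_, _, hc', hω', hs'⟩, rfl⟩

theorem TS_le_TG : U.TS.map iota ≤ TG hF n := by
  rintro _ ⟨s, hs, rfl⟩
  exact mem_TS_iff.1 hs

instance : Finite (GL (Fin (n + 1)) F) := inferInstance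

/-- **the root group datum of the unitary group** -/
theorem rgdG {p : ℕ} [Fact p.Prime] [CharP F p] : RGD (UB.cs n) (isCartan ((n + 1) / 2)) p (TG hF n) (nG U) (XG U) := by
  have : Finite (CoxeterMatrix.B ((n + 1) / 2)).Group := UB.finiteW
  have h1 : RGD (UB.cs n) (isCartan ((n + 1) / 2)) p (U.TS.map iota) (nG U) (XG U) :=
    rgd_map_of_ker_le_center (U.rgd (p := p)) (iota (hF := hF) (n := n)) (by
      intro g hg
      have h3 : g = 1 := iota_inj (hg.trans (map_one _).symm)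
      rw [h3]
      exact one_mem _)
  refine rgd_enlarge h1 (TS_le_TG U) (fun i => ?_) (fun x hx t ht => ?_) TG_coprime
  · exact normalize_of_mono (sgp_sgp i) fun x y h => nS_col U i x y h
  · apply le_antisymm
    · intro u hu
      rw [mem_cj] at hu
      have h2 := XG_conj U hx ht hu
      have e : t * (t⁻¹ * u * t) * t⁻¹ = u := by group
      rwa [e] at h2
    · intro u hu
      rw [mem_cj]
      have h2 := XG_conj U hx (inv_mem ht) hu
      rwa [inv_inv] at h2

end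

end Cfsg.Agent.H356.AQ
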