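import Cfsg.Agent.H356.AQ.NU
import Cfsg.Agent.H40.OC.RowTwo
import Cfsg.Agent.LieClassical.SUBasic

/-!
# The frame of `PGU_{n+1}` and the row of `PSU_{n+1}` in characteristic two (S4884, helper356)

* `PGU hF n = GJ hF n ⧸ ZG hF n`; `rgdP`, `adjP`, `GGP_eq_top`, `rigidP`, `antiP`, `hNP`;
* `qU : SU (n+1) F q →* PGU hF n`; `psuEquiv`; `normal_qU`; `UU_le_qU`;
* `rowB_psu_two`.
-/

set_option autoImplicit false
set_option linter.unusedSectionVars false
set_option linter.unusedSimpArgs false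

namespace Cfsg.Agent.H356.AQ

open Matrix Cfsg Cfsg.Agent.H356.TA Cfsg.Agent.H356.TU Cfsg.Agent.LieClassical.HermBasic
  Cfsg.Agent.LieClassical.HermSiegel
open Cfsg.Agent.TitsThree Cfsg.Agent.TitsThree.Siegel Cfsg.Agent.TitsThree.SiegelGen
  Cfsg.Agent.TitsThree.WittFrame Cfsg.Agent.TitsThree.WBridge Cfsg.Agent.TitsThree.WittWeyl
  Cfsg.Agent.TitsThree.FrameCN Cfsg.Agent.TitsThree.KSideU Cfsg.Agent.TitsThree.KSideUDesc
open Cfsg.Agent.TitsThree.KSideA Cfsg.Agent.Nodes.RGDTypeA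
open CoxeterSystem Cfsg.Agent.ChevalleyStructure.CoxeterGeom Cfsg.Agent.Tits.Roots
  Cfsg.Agent.Nodes.Comb Cfsg.Agent.Nodes.Reps Cfsg.Agent.Nodes.BNOf Cfsg.Agent.Nodes.RGDLib
open Cfsg.Agent.Nodes.RGDAllP Cfsg.Agent.Nodes.WittU Cfsg.Agent.Nodes.OppDec Cfsg.Agent.Nodes.Bruhat
open Cfsg.Agent.Nodes.TypeC (isCartan)
open Cfsg.Agent.H148.GG (Adj)
open Cfsg.Agent.H40.OC (UU co hN_of rowB_two)

section

variable {F : Type*} [Field F] [Fintype F] {q : ℕ} {hF : Fintype.card F = q ^ 2} {n : ℕ}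

instance finB (n : ℕ) : Finite (CoxeterMatrix.B ((n + 1) / 2)).Group := UB.finiteW

variable (hF n) in
/-- the projective unitary group -/
abbrev PGU : Type _ := GJ hF n ⧸ ZG hF n

variable (hF n) in
/-- the projection -/
def pgu : GJ hF n →* PGU hF n := QuotientGroup.mk' (ZG hF n)

variable (U : UB hF n)

/-- **the root group datum of `PGU`** -/
theorem rgdP {p : ℕ} [Fact p.Prime] [CharP F p] : RGD (UB.cs n) (isCartan ((n + 1) / 2)) p ((TG hF n).map (pgu hF n))
    (fun i => pgu hF n (nG U i)) (fun x => (XG U x).map (pgu hF n)) :=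
  quotR (kerU U) (rgdG U)

/-- **the coordinates of `PGU`** -/
noncomputable def adjP (p : ℕ) [Fact p.Prime] [CharP F p] :
    Adj ((TG hF n).map (pgu hF n)) (fun x => (XG U x).map (pgu hF n)) (fun i => Ki hF n i) :=
  quotD (kerU U) (rgdG U (p := p))

theorem rigidP (p : ℕ) [Fact p.Prime] [CharP F p] (t : ↥((TG hF n).map (pgu hF n)))
    (ht : ∀ i, (adjP U p).a i t = 1) : t = 1 := quot_rigid (kerU U) (rgdG U (p := p)) t ht

theorem GGP_eq_top (hn : 2 ≤ n) : GG (UB.cs n) (isCartan ((n + 1) / 2)) ((TG hF n).map (pgu hF n))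
    (fun x => (XG U x).map (pgu hF n)) = ⊤ := quot_GG (kerU U) (GGU_eq_top U hn)

theorem commP : ∀ s ∈ (TG hF n).map (pgu hF n), ∀ t ∈ (TG hF n).map (pgu hF n), Commute s t :=
  quot_comm (D := adjU (Classical.choice (exists_UB (hF := hF) (n := n)))) (kerU _) TG_comm

theorem exists_antiP : ∃ φ : PGU hF n → PGU hF n, (∀ g, φ (pgu hF n g) = pgu hF n (trU g)) ∧
    H92.GG.Anti (UB.cs n) (isCartan ((n + 1) / 2)) ((TG hF n).map (pgu hF n)) (fun x => (XG U x).map (pgu hF n)) φ :=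
  exists_anti (kerU U) (antiU U)

/-- **the linear characters of `U`** -/
theorem hNP (p : ℕ) [Fact p.Prime] [CharP F p]
    (f : ↥(UU (UB.cs n) (isCartan ((n + 1) / 2)) (fun x => (XG U x).map (pgu hF n))) →* ℂˣ)
    (u : ↥(UU (UB.cs n) (isCartan ((n + 1) / 2)) (fun x => (XG U x).map (pgu hF n))))
    (hu : ∀ i, co (rgdP U (p := p)) (adjP U p) i u = 1) : f u = 1 := by
  exact hN_of (rgdP U (p := p)) (adjP U p) (fun f x hx hns u hu' hu =>
    kill_quot (pgu hF n) hx (fun f u hu' hu => kill_U U f x hx hns u hu' hu) f u hu' hu) f u hu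

/-! ### the special unitary group -/

/-- the homomorphism of the special unitary group -/
noncomputable def qU : SU (n + 1) F q →* PGU hF n := ((pgu hF n).comp iota).comp U.psi.toMonoidHom

theorem scalar_iff {A : SU (n + 1) F q} {c : F} : (U.psi A).1.1 = c • (1 : Matrix (Fin (n + 1)) (Fin (n + 1)) F) ↔
    A.1.1 = c • (1 : Matrix (Fin (n + 1)) (Fin (n + 1)) F) := by
  have h1 : (U.Pg⁻¹).1 * (U.Pg).1 = 1 := by rw [← Units.val_mul, inv_mul_cancel, Units.val_one]
  have h2 : (U.Pg).1 * (U.Pg⁻¹).1 = 1 := by rw [← Units.val_mul, mul_inv_cancel, Units.val_one]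
  rw [UB.psi_val]
  constructor
  · intro h
    calc A.1.1 = (U.Pg).1 * ((U.Pg⁻¹).1 * A.1.1 * (U.Pg).1) * (U.Pg⁻¹).1 := by
          simp only [← Matrix.mul_assoc, h2, Matrix.one_mul]
          rw [Matrix.mul_assoc, h2, Matrix.mul_one]
      _ = _ := by rw [h, Matrix.mul_smul, Matrix.mul_one, Matrix.smul_mul, h2]
  · intro h
    rw [h, Matrix.mul_smul, Matrix.mul_one, Matrix.smul_mul, h1]

theorem ker_qU (hn : 2 ≤ n) : (qU U).ker = Subgroup.center (SU (n + 1) F q) := by
  ext A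
  rw [Cfsg.Agent.LieClassical.SUBasic.mem_center_SU_iff hF (by omega)]
  have h0 : A ∈ (qU U).ker ↔ iota (U.psi A) ∈ ZG hF n := QuotientGroup.eq_one_iff _
  rw [h0]
  constructor
  · intro h
    have h1 : (U.psi A).1.1 = ((U.psi A).1.1 0 0) • (1 : Matrix (Fin (n + 1)) (Fin (n + 1)) F) := by
      ext x y
      rw [Matrix.smul_apply, Matrix.one_apply, smul_eq_mul]
      by_cases hxy : x = y
      · rw [if_pos hxy, mul_one, hxy]
        exact h.2 y 0
      · rw [if_neg hxy, mul_zero]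
        exact h.1 x y hxy
    have h2 := (scalar_iff U).1 h1
    set c := (U.psi A).1.1 0 0 with hc
    have h3 : A.1.1 = diagonal fun _ => c := by
      rw [h2]
      ext x y
      rw [Matrix.smul_apply, Matrix.one_apply, Matrix.diagonal_apply, smul_eq_mul, mul_ite, mul_one, mul_zero]
    have hcn : c ^ (n + 1) = 1 := by
      have := A.1.2
      rw [h3, det_diagonal, Finset.prod_const, Finset.card_univ, Fintype.card_fin] at this
      exact this
    have hcq : c ^ (q + 1) = 1 := by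
      have h4 := TG_unit h.1 0
      rw [h.2 (0 : Fin (n + 1)).rev 0] at h4
      rw [pow_succ, mul_comm]
      exact h4
    exact ⟨c, hcn, hcq, Subtype.ext (Subtype.ext h3)⟩
  · rintro ⟨c, hcn, hcq, rfl⟩
    have h1 := (scalar_iff U (A := Cfsg.Agent.LieClassical.SUBasic.suScalar q c hcn hcq) (c := c)).2 (by
      rw [Cfsg.Agent.LieClassical.SUBasic.coe_suScalar]
      ext x y
      rw [Matrix.smul_apply, Matrix.one_apply, Matrix.diagonal_apply, smul_eq_mul, mul_ite, mul_one, mul_zero])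
    have h2 : ∀ x y, (iota (U.psi (Cfsg.Agent.LieClassical.SUBasic.suScalar q c hcn hcq))).1.1 x y =
        if x = y then c else 0 := by
      intro x y
      rw [iota_val, h1, Matrix.smul_apply, Matrix.one_apply, smul_eq_mul, mul_ite, mul_one, mul_zero]
    refine ⟨fun x y hxy => ?_, fun x y => ?_⟩
    · rw [h2, if_neg hxy]
    · rw [h2, h2, if_pos rfl, if_pos rfl]

/-- `PSU` as a subgroup of `PGU` -/
noncomputable def psuEquiv (hn : 2 ≤ n) : PSU (n + 1) F q ≃* ↥(qU U).range :=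
  (QuotientGroup.quotientMulEquivOfEq (ker_qU U hn).symm).trans (QuotientGroup.quotientKerEquivRange (qU U))

theorem range_qU : (qU U).range = (iota (hF := hF) (n := n)).range.map (pgu hF n) := by
  ext g
  constructor
  · rintro ⟨A, rfl⟩
    exact ⟨iota (U.psi A), ⟨_, rfl⟩, rfl⟩
  · rintro ⟨_, ⟨s, rfl⟩, rfl⟩
    refine ⟨U.psi.symm s, ?_⟩
    change pgu hF n (iota (U.psi (U.psi.symm s))) = _
    rw [MulEquiv.apply_symm_apply]

theorem range_iota_normal : (iota (hF := hF) (n := n)).range.Normal := by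
  constructor
  rintro _ ⟨s, rfl⟩ g
  have h1 : (g * iota s * g⁻¹).1.1.det = 1 := by
    rw [mul_val, mul_val, Matrix.det_mul, Matrix.det_mul]
    have h2 : (iota s).1.1.det = 1 := s.1.2
    rw [h2, mul_one, ← Matrix.det_mul, mul_inv_val, Matrix.det_one]
  obtain ⟨t, ht⟩ := mem_range_iota h1
  exact ⟨t, ht⟩

theorem normal_qU : ((qU U).range).Normal := by
  rw [range_qU]
  exact Subgroup.Normal.map range_iota_normal _ (QuotientGroup.mk'_surjective _)

theorem UU_le_qU : UU (UB.cs n) (isCartan ((n + 1) / 2)) (fun x => (XG U x).map (pgu hF n)) ≤ (qU U).range := by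
  rw [range_qU]
  refine RGD.Sup_le fun x _ => Subgroup.map_mono ?_
  rintro _ ⟨s, -, rfl⟩
  exact ⟨s, rfl⟩

end

section

variable {F : Type*} [Field F] [Fintype F] {r N q : ℕ}

/-- **the row of `PSU` in characteristic two** -/
theorem rowB_psu_two [CharP F 2] (hF : Fintype.card F = r ^ 2) (hN : 3 ≤ N) (hq : q.Prime) (hq2 : q ≠ 2)
    (hd : q ∣ Nat.card (PSU N F r)) : H706.PB.RowB q (PSU N F r) := by
  obtain ⟨n, rfl⟩ : ∃ n, N = n + 1 := ⟨N - 1, by omega⟩
  have hn : 2 ≤ n := by omega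
  have : Fact (Nat.Prime 2) := ⟨Nat.prime_two⟩
  obtain ⟨U⟩ := exists_UB (hF := hF) (n := n)
  obtain ⟨φ, -, hφ⟩ := exists_antiP U
  have hSn := normal_qU U
  have hfin : Finite (GL (Fin (n + 1)) F) := inferInstance
  have hfin2 : Finite (PSU (n + 1) F r) := Finite.of_equiv _ (psuEquiv U hn).symm.toEquiv
  refine H706.PB.RowB.congr (psuEquiv U hn) ?_
  exact rowB_two (rgdP U (p := 2)) (adjP U 2) (GGP_eq_top U hn) (rigidP U 2) (anti148 hφ) (hNP U 2)
    (UU_le_qU U) hq hq2 (by rwa [← Nat.card_congr (psuEquiv U hn).toEquiv])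

end

end Cfsg.Agent.H356.AQ
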